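import Cfsg.Agent.Lib.Twisted.E6Inv.Machine

/-!
# Involutions of `²E₆(q)`: the tables of conjugates
-/

set_option autoImplicit false
set_option maxRecDepth 1000000

namespace Cfsg.Agent.Lib.Twisted.E6Inv

open Cfsg.Lie Cfsg.Agent.Lib.Twisted.Coll

/-- The word of a root element. -/
def wY (s : ℕ) : Wd := if bar s = s then wL s else wS s

/-- The conjugate of the generic element by the root element 36. -/
def F36 : Wd := [(36, [[36]]), (56, [[56]]), (37, [[37]]), (42, [[42]]), (39, [[39]]), (46, [[46]]), (38, [[37, 100], [38]]), (57, [[42, 101], [57]]), (40, [[40]]), (43, [[43]]), (47, [[47]]), (41, [[37, 39, 100], [40, 100], [41]]), (58, [[39, 42, 101], [43, 101], [58]]), (44, [[44]]), (48, [[48]]), (50, [[50]]), (45, [[44, 100], [45]]), (59, [[44, 101], [59]]), (49, [[37, 39, 46, 100], [48, 100], [49]]), (61, [[39, 42, 46, 101], [50, 101], [61]]), (51, [[51]]), (60, [[37, 39, 42, 100, 101], [37, 39, 57, 100], [38, 39, 42, 101], [44, 100,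 101], [45, 101], [59, 100], [60]]), (52, [[51, 100], [52]]), (62, [[51, 101], [62]]), (53, [[53]]), (63, [[37, 39, 42, 46, 100, 101], [37, 39, 46, 57, 100], [38, 39, 42, 46, 101], [51, 100, 101], [52, 101], [62, 100], [63]]), (54, [[37, 39, 43, 46, 100], [53, 100], [54]]), (64, [[39, 40, 42, 46, 101], [53, 101], [64]]), (65, [[37, 39, 39, 42, 46, 100, 101], [37, 39, 42, 47, 100, 101], [37, 39, 43, 46, 100, 101], [37, 39, 46, 58, 100], [37, 39, 47, 57, 100], [38, 39, 42, 47, 101], [39, 40, 42, 46, 100, 101], [39, 41, 42, 46, 101], [53, 100, 101], [54, 101], [64, 100], [65]]), (55, [[37, 39, 44, 46, 100], [44, 48, 100], [55]]), (67, [[39, 42, 44, 46, 101], [44, 50, 101], [67]]), (66, [[37, 39, 40, 42, 46, 100, 101], [37, 39, 40, 46, 57, 100], [37, 39, 42, 48, 100, 101], [37, 39, 44, 46, 100, 101], [37, 39, 46, 59, 100], [37, 39, 48, 57, 100], [38, 39, 40, 42, 46, 101], [38, 39, 42, 48, 101], [44, 48, 100, 101], [48, 59, 100], [55, 101], [66]]),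 (68, [[37, 39, 42, 43, 46, 100, 101], [37, 39, 42, 50, 100, 101], [37, 39, 43, 46, 57, 100], [37, 39, 50, 57, 100], [38, 39, 42, 43, 46, 101], [38, 39, 42, 50, 101], [39, 42, 44, 46, 100, 101], [39, 42, 45, 46, 101], [44, 50, 100, 101], [45, 50, 101], [67, 100], [68]]), (69, [[37, 39, 42, 44, 46, 100, 101], [37, 39, 42, 51, 100, 101], [37, 39, 44, 46, 57, 100], [37, 39, 51, 57, 100], [38, 39, 42, 44, 46, 101], [38, 39, 42, 51, 101], [44, 51, 100, 101], [45, 51, 101], [51, 59, 100], [69]]), (70, [[37, 39, 39, 42, 44, 46, 100, 101], [37, 39, 40, 42, 43, 46, 100, 101], [37, 39, 40, 43, 46, 57, 100], [37, 39, 42, 44, 47, 100, 101], [37, 39, 43, 46, 59, 100], [37, 39, 44, 46, 58, 100], [37, 39, 44, 47, 57, 100], [38, 39, 40, 42, 43, 46, 101], [38, 39, 42, 44, 47, 101], [39, 40, 42, 45, 46, 101], [39, 41, 42, 44, 46, 101], [70]]), (71, [[37, 39, 39, 42, 44, 46, 46, 100, 101], [37, 39, 39, 42, 46, 51, 100, 101], [37, 39, 40, 42, 46, 50, 100, 101],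 [37, 39, 40, 46, 50, 57, 100], [37, 39, 42, 43, 46, 48, 100, 101], [37, 39, 42, 46, 53, 100, 101], [37, 39, 42, 47, 51, 100, 101], [37, 39, 42, 48, 50, 100, 101], [37, 39, 43, 46, 48, 57, 100], [37, 39, 43, 46, 62, 100], [37, 39, 44, 46, 50, 100, 101], [37, 39, 44, 46, 61, 100], [37, 39, 46, 51, 58, 100], [37, 39, 46, 53, 57, 100], [37, 39, 47, 51, 57, 100], [37, 39, 48, 50, 57, 100], [38, 39, 40, 42, 46, 50, 101], [38, 39, 42, 43, 46, 48, 101], [38, 39, 42, 46, 53, 101], [38, 39, 42, 47, 51, 101], [38, 39, 42, 48, 50, 101], [39, 40, 42, 46, 52, 101], [39, 41, 42, 46, 51, 101], [39, 42, 44, 46, 48, 100, 101], [39, 42, 44, 46, 49, 101], [44, 48, 50, 100, 101], [44, 48, 61, 100], [44, 49, 50, 101], [51, 53, 100, 101], [52, 53, 101], [53, 62, 100], [71]])]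

theorem F36_eq : NFW (wY 36 ++ idW Lr ++ (wY 36).reverse) = F36 := by decide +kernel

/-- The conjugate of the generic element by the root element 37. -/
def F37 : Wd := [(36, [[36]]), (56, [[56]]), (37, [[37]]), (42, [[42]]), (39, [[39]]), (46, [[46]]), (38, [[36, 100], [38]]), (57, [[56, 101], [57]]), (40, [[39, 100], [40]]), (43, [[39, 101], [43]]), (47, [[47]]), (41, [[36, 39, 100], [41]]), (58, [[39, 56, 101], [58]]), (44, [[39, 100, 101], [40, 101], [43, 100], [44]]), (48, [[39, 46, 100], [47, 100], [48]]), (50, [[39, 46, 101], [47, 101], [50]]), (45, [[38, 39, 101], [41, 101], [45]]), (59, [[39, 57, 100], [58, 100], [59]]), (49, [[36, 39, 46, 100], [49]]), (61, [[39, 46, 56, 101], [61]]), (51, [[39, 46, 100, 101], [47, 100, 101], [48, 101], [50, 100], [51]]), (60, [[36, 39, 56, 100, 101], [36, 39, 57, 100], [38, 39, 56, 101], [60]]), (52, [[38, 39, 46, 101], [49, 101], [52]]), (62, [[39, 46, 57, 100], [61, 100], [62]]), (53, [[39,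 39, 46, 100, 101], [39, 40, 46, 101], [39, 43, 46, 100], [39, 47, 100, 101], [40, 47, 101], [43, 47, 100], [53]]), (63, [[36, 39, 46, 56, 100, 101], [36, 39, 46, 57, 100], [38, 39, 46, 56, 101], [63]]), (54, [[36, 39, 39, 46, 100, 101], [36, 39, 43, 46, 100], [38, 39, 47, 101], [39, 41, 46, 101], [41, 47, 101], [54]]), (64, [[39, 39, 46, 56, 100, 101], [39, 40, 46, 56, 101], [39, 46, 58, 100], [39, 47, 57, 100], [47, 58, 100], [64]]), (65, [[36, 39, 39, 46, 56, 100, 101], [36, 39, 46, 58, 100], [36, 39, 47, 56, 100, 101], [36, 39, 47, 57, 100], [38, 39, 47, 56, 101], [39, 41, 46, 56, 101], [65]]), (55, [[36, 39, 39, 46, 100, 100, 101], [36, 39, 40, 46, 100, 101], [36, 39, 43, 46, 100, 100], [36, 39, 44, 46, 100], [38, 39, 40, 46, 101], [38, 39, 47, 100, 101], [38, 39, 48, 101], [39, 41, 46, 100, 101], [41, 47, 100, 101], [41, 48, 101], [54, 100], [55]]), (67, [[39, 39, 46, 56, 100, 101, 101], [39, 40, 46, 56, 101, 101], [39, 43, 46, 56,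 100, 101], [39, 43, 46, 57, 100], [39, 44, 46, 56, 101], [39, 46, 58, 100, 101], [39, 47, 57, 100, 101], [39, 50, 57, 100], [47, 58, 100, 101], [50, 58, 100], [64, 101], [67]]), (66, [[36, 39, 39, 46, 57, 100, 100], [36, 39, 40, 46, 56, 100, 101], [36, 39, 40, 46, 57, 100], [36, 39, 46, 58, 100, 100], [36, 39, 46, 59, 100], [36, 39, 47, 56, 100, 100, 101], [36, 39, 47, 57, 100, 100], [36, 39, 48, 56, 100, 101], [36, 39, 48, 57, 100], [38, 39, 40, 46, 56, 101], [38, 39, 47, 56, 100, 101], [38, 39, 48, 56, 101], [39, 41, 46, 57, 100], [65, 100], [66]]), (68, [[36, 39, 43, 46, 56, 100, 101], [36, 39, 43, 46, 57, 100], [36, 39, 47, 56, 100, 101, 101], [36, 39, 47, 57, 100, 101], [36, 39, 50, 56, 100, 101], [36, 39, 50, 57, 100], [38, 39, 39, 46, 56, 101, 101], [38, 39, 43, 46, 56, 101], [38, 39, 46, 58, 101], [38, 39, 47, 56, 101, 101], [38, 39, 50, 56, 101], [39, 41, 46, 56, 101, 101], [39, 45, 46, 56, 101], [65, 101], [68]]), (69, [[36, 39,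 40, 46, 56, 100, 101, 101], [36, 39, 40, 46, 57, 100, 101], [36, 39, 43, 46, 56, 100, 100, 101], [36, 39, 43, 46, 57, 100, 100], [36, 39, 44, 46, 56, 100, 101], [36, 39, 44, 46, 57, 100], [36, 39, 47, 56, 100, 100, 101, 101], [36, 39, 47, 57, 100, 100, 101], [36, 39, 48, 56, 100, 101, 101], [36, 39, 48, 57, 100, 101], [36, 39, 50, 56, 100, 100, 101], [36, 39, 50, 57, 100, 100], [36, 39, 51, 56, 100, 101], [36, 39, 51, 57, 100], [38, 39, 39, 46, 57, 100, 101], [38, 39, 40, 46, 56, 101, 101], [38, 39, 43, 46, 56, 100, 101], [38, 39, 44, 46, 56, 101], [38, 39, 46, 58, 100, 101], [38, 39, 46, 59, 101], [38, 39, 47, 56, 100, 101, 101], [38, 39, 48, 56, 101, 101], [38, 39, 50, 56, 100, 101], [38, 39, 51, 56, 101], [39, 41, 46, 57, 100, 101], [39, 45, 46, 57, 100], [65, 100, 101], [66, 101], [68, 100], [69]]), (70, [[36, 39, 39, 40, 46, 57, 100, 101], [36, 39, 39, 44, 46, 56, 100, 101], [36, 39, 39, 46, 59, 100, 101], [36, 39, 39, 47, 56, 100,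 100, 101, 101], [36, 39, 39, 47, 57, 100, 100, 101], [36, 39, 40, 43, 46, 56, 100, 101], [36, 39, 40, 43, 46, 57, 100], [36, 39, 40, 46, 58, 100, 101], [36, 39, 40, 47, 56, 100, 101, 101], [36, 39, 40, 47, 57, 100, 101], [36, 39, 43, 46, 59, 100], [36, 39, 43, 47, 56, 100, 100, 101], [36, 39, 43, 47, 57, 100, 100], [36, 39, 44, 46, 58, 100], [36, 39, 44, 47, 56, 100, 101], [36, 39, 44, 47, 57, 100], [38, 39, 39, 43, 46, 56, 100, 101], [38, 39, 39, 46, 58, 100, 101], [38, 39, 39, 47, 56, 100, 101, 101], [38, 39, 39, 47, 57, 100, 101], [38, 39, 40, 43, 46, 56, 101], [38, 39, 40, 46, 58, 101], [38, 39, 40, 47, 56, 101, 101], [38, 39, 43, 47, 56, 100, 101], [38, 39, 44, 47, 56, 101], [38, 39, 47, 58, 100, 101], [38, 39, 47, 59, 101], [39, 39, 41, 46, 57, 100, 101], [39, 39, 45, 46, 56, 100, 101], [39, 39, 46, 60, 100, 101], [39, 40, 45, 46, 56, 101], [39, 40, 46, 60, 101], [39, 41, 43, 46, 56, 100, 101], [39, 41, 43, 46, 57, 100], [39, 41, 44,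 46, 56, 101], [39, 41, 46, 58, 100, 101], [39, 41, 46, 59, 101], [39, 41, 47, 57, 100, 101], [39, 43, 46, 60, 100], [39, 45, 46, 58, 100], [39, 45, 47, 57, 100], [39, 47, 60, 100, 101], [40, 47, 60, 101], [41, 47, 58, 100, 101], [41, 47, 59, 101], [43, 47, 60, 100], [45, 47, 58, 100], [70]]), (71, [[36, 39, 39, 39, 46, 46, 57, 100, 100, 101], [36, 39, 39, 40, 46, 46, 56, 100, 101, 101], [36, 39, 39, 43, 46, 46, 56, 100, 100, 101], [36, 39, 39, 43, 46, 46, 57, 100, 100], [36, 39, 39, 44, 46, 46, 56, 100, 101], [36, 39, 39, 46, 46, 58, 100, 100, 101], [36, 39, 39, 46, 47, 56, 100, 100, 101, 101], [36, 39, 39, 46, 48, 56, 100, 101, 101], [36, 39, 39, 46, 50, 56, 100, 100, 101], [36, 39, 39, 46, 51, 56, 100, 101], [36, 39, 39, 46, 62, 100, 101], [36, 39, 40, 46, 50, 56, 100, 101], [36, 39, 40, 46, 50, 57, 100], [36, 39, 40, 46, 61, 100, 101], [36, 39, 43, 46, 48, 56, 100, 101], [36, 39, 43, 46, 48, 57, 100], [36, 39, 43, 46, 62, 100], [36, 39,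 44, 46, 61, 100], [36, 39, 46, 47, 58, 100, 100, 101], [36, 39, 46, 48, 58, 100, 101], [36, 39, 46, 50, 58, 100, 100], [36, 39, 46, 51, 58, 100], [36, 39, 46, 53, 56, 100, 101], [36, 39, 46, 53, 57, 100], [36, 39, 47, 51, 56, 100, 101], [36, 39, 47, 51, 57, 100], [36, 39, 48, 50, 56, 100, 101], [36, 39, 48, 50, 57, 100], [38, 39, 39, 39, 46, 46, 56, 100, 101, 101], [38, 39, 39, 40, 46, 46, 56, 101, 101], [38, 39, 39, 46, 46, 58, 100, 101], [38, 39, 39, 46, 47, 57, 100, 101], [38, 39, 40, 46, 50, 56, 101], [38, 39, 40, 46, 61, 101], [38, 39, 43, 46, 48, 56, 101], [38, 39, 46, 47, 58, 100, 101], [38, 39, 46, 48, 58, 101], [38, 39, 46, 53, 56, 101], [38, 39, 47, 51, 56, 101], [38, 39, 47, 62, 101], [38, 39, 48, 50, 56, 101], [38, 39, 48, 61, 101], [39, 39, 41, 46, 46, 56, 100, 101, 101], [39, 39, 41, 46, 46, 57, 100, 101], [39, 39, 46, 52, 56, 100, 101], [39, 40, 46, 52, 56, 101], [39, 41, 46, 47, 56, 100, 101, 101], [39, 41, 46, 47, 57, 100,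 101], [39, 41, 46, 48, 56, 101, 101], [39, 41, 46, 50, 56, 100, 101], [39, 41, 46, 50, 57, 100], [39, 41, 46, 51, 56, 101], [39, 41, 46, 62, 101], [39, 43, 46, 49, 56, 100, 101], [39, 43, 46, 49, 57, 100], [39, 44, 46, 49, 56, 101], [39, 46, 52, 58, 100], [39, 47, 52, 57, 100], [39, 49, 50, 57, 100], [41, 47, 62, 101], [41, 48, 61, 101], [47, 52, 58, 100], [49, 50, 58, 100], [71]])]

theorem F37_eq : NFW (wY 37 ++ idW Lr ++ (wY 37).reverse) = F37 := by decide +kernel

/-- The conjugate of the generic element by the root element 39. -/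
def F39 : Wd := [(36, [[36]]), (56, [[56]]), (37, [[37]]), (42, [[42]]), (39, [[39]]), (46, [[46]]), (38, [[38]]), (57, [[57]]), (40, [[37, 100], [40]]), (43, [[42, 100], [43]]), (47, [[46, 100], [47]]), (41, [[38, 100], [41]]), (58, [[57, 100], [58]]), (44, [[37, 42, 100], [44]]), (48, [[37, 46, 100], [48]]), (50, [[42, 46, 100], [50]]), (45, [[38, 42, 100], [45]]), (59, [[37, 57, 100], [59]]), (49, [[38, 46, 100], [49]]), (61, [[46, 57, 100], [61]]), (51, [[37, 42, 46, 100], [51]]), (60, [[38, 57, 100], [60]]), (52, [[38, 42, 46, 100], [52]]), (62, [[37, 46, 57, 100], [62]]), (53, [[37, 42, 47, 100], [37, 43, 46, 100], [40, 42, 46, 100], [51, 100], [53]]), (63, [[38, 46, 57, 100], [63]]), (54, [[38, 42, 47, 100], [38, 43, 46, 100], [41, 42, 46, 100], [52, 100], [54]]), (64, [[37, 46, 58, 100], [37, 47, 57, 100], [40, 46, 57, 100], [62, 100], [64]]), (65, [[38, 46, 58, 100], [38, 47, 57, 100], [41, 46, 57, 100], [63, 100], [65]]), (55,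 [[37, 38, 42, 46, 100, 100], [37, 41, 42, 46, 100], [38, 40, 42, 46, 100], [38, 42, 48, 100], [38, 44, 46, 100], [55]]), (67, [[37, 42, 46, 57, 100, 100], [37, 42, 46, 58, 100], [37, 43, 46, 57, 100], [37, 50, 57, 100], [44, 46, 57, 100], [67]]), (66, [[37, 38, 46, 57, 100, 100], [37, 41, 46, 57, 100], [38, 40, 46, 57, 100], [38, 46, 59, 100], [38, 48, 57, 100], [66]]), (68, [[38, 42, 46, 57, 100, 100], [38, 42, 46, 58, 100], [38, 43, 46, 57, 100], [38, 50, 57, 100], [45, 46, 57, 100], [68]]), (69, [[37, 38, 42, 46, 57, 100, 100], [37, 45, 46, 57, 100], [38, 42, 46, 59, 100], [38, 44, 46, 57, 100], [38, 51, 57, 100], [69]]), (70, [[37, 41, 42, 46, 58, 100], [37, 41, 43, 46, 57, 100], [37, 42, 47, 60, 100], [37, 43, 46, 60, 100], [37, 45, 46, 58, 100], [37, 45, 47, 57, 100], [38, 40, 42, 46, 58, 100], [38, 40, 43, 46, 57, 100], [38, 42, 47, 59, 100], [38, 43, 46, 59, 100], [38, 44, 46, 58, 100], [38, 44, 47, 57, 100], [40, 42, 46, 60, 100],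 [40, 45, 46, 57, 100], [41, 42, 46, 59, 100], [41, 44, 46, 57, 100], [51, 60, 100], [69, 100], [70]]), (71, [[37, 38, 42, 46, 46, 57, 100, 100, 100], [37, 38, 42, 46, 47, 57, 100, 100], [37, 38, 42, 46, 61, 100, 100], [37, 38, 43, 46, 46, 57, 100, 100], [37, 41, 42, 46, 61, 100], [37, 41, 46, 50, 57, 100], [37, 42, 46, 49, 57, 100, 100], [37, 42, 46, 49, 58, 100], [37, 43, 46, 49, 57, 100], [37, 46, 52, 58, 100], [37, 47, 52, 57, 100], [37, 49, 50, 57, 100], [38, 40, 42, 46, 46, 57, 100, 100], [38, 40, 42, 46, 61, 100], [38, 40, 46, 50, 57, 100], [38, 42, 46, 48, 58, 100], [38, 42, 47, 62, 100], [38, 42, 48, 61, 100], [38, 43, 46, 48, 57, 100], [38, 43, 46, 62, 100], [38, 44, 46, 46, 57, 100, 100], [38, 44, 46, 61, 100], [38, 46, 51, 57, 100, 100], [38, 46, 51, 58, 100], [38, 46, 53, 57, 100], [38, 47, 51, 57, 100], [38, 48, 50, 57, 100], [40, 46, 52, 57, 100], [41, 42, 46, 62, 100], [41, 46, 51, 57, 100], [44, 46, 49, 57, 100], [52, 62,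 100], [71]])]

theorem F39_eq : NFW (wY 39 ++ idW Lr ++ (wY 39).reverse) = F39 := by decide +kernel

/-- The conjugate of the generic element by the root element 46. -/
def F46 : Wd := [(36, [[36]]), (56, [[56]]), (37, [[37]]), (42, [[42]]), (39, [[39]]), (46, [[46]]), (38, [[38]]), (57, [[57]]), (40, [[40]]), (43, [[43]]), (47, [[39, 100], [47]]), (41, [[41]]), (58, [[58]]), (44, [[44]]), (48, [[40, 100], [48]]), (50, [[43, 100], [50]]), (45, [[45]]), (59, [[59]]), (49, [[38, 39, 100], [41, 100], [49]]), (61, [[39, 57, 100], [58, 100], [61]]), (51, [[44, 100], [51]]), (60, [[60]]), (52, [[45, 100], [52]]), (62, [[59, 100], [62]]), (53, [[40, 43, 100], [53]]), (63, [[38, 39, 57, 100], [60, 100], [63]]), (54, [[38, 39, 43, 100], [41, 43, 100], [54]]), (64, [[39, 40, 57, 100], [40, 58, 100], [64]]), (65, [[38, 39, 58, 100], [39, 41, 57, 100], [41, 58, 100], [65]]), (55, [[38, 39, 44, 100], [41, 44, 100], [55]]), (67, [[39, 44, 57, 100], [44,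 58, 100], [67]]), (66, [[38, 39, 40, 57, 100], [38, 39, 59, 100], [41, 59, 100], [66]]), (68, [[38, 39, 43, 57, 100], [39, 45, 57, 100], [45, 58, 100], [68]]), (69, [[38, 39, 44, 57, 100], [45, 59, 100], [69]]), (70, [[38, 39, 40, 43, 57, 100], [38, 39, 43, 59, 100], [38, 39, 44, 58, 100], [39, 40, 45, 57, 100], [39, 41, 44, 57, 100], [40, 43, 60, 100], [40, 45, 58, 100], [41, 43, 59, 100], [41, 44, 58, 100], [70]]), (71, [[38, 39, 39, 44, 57, 100, 100], [38, 39, 40, 43, 57, 100, 100], [38, 39, 40, 50, 57, 100], [38, 39, 43, 48, 57, 100], [38, 39, 43, 59, 100, 100], [38, 39, 43, 62, 100], [38, 39, 44, 61, 100], [38, 39, 51, 58, 100], [38, 39, 53, 57, 100], [39, 40, 45, 57, 100, 100], [39, 40, 52, 57, 100], [39, 41, 51, 57, 100], [39, 44, 49, 57, 100], [40, 45, 58, 100, 100], [40, 52, 58, 100], [41, 43, 59, 100, 100], [41, 43, 62, 100], [41, 44, 61, 100], [41, 51, 58, 100], [44, 49, 58, 100], [53, 60, 100], [70, 100], [71]])]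

theorem F46_eq : NFW (wY 46 ++ idW Lr ++ (wY 46).reverse) = F46 := by decide +kernel

/-- The conjugate of the generic element by the root element 38. -/
def F38 : Wd := [(36, [[36]]), (56, [[56]]), (37, [[37]]), (42, [[42]]), (39, [[39]]), (46, [[46]]), (38, [[38]]), (57, [[57]]), (40, [[40]]), (43, [[43]]), (47, [[47]]), (41, [[39, 100], [41]]), (58, [[39, 101], [58]]), (44, [[44]]), (48, [[48]]), (50, [[50]]), (45, [[43, 100], [45]]), (59, [[40, 101], [59]]), (49, [[39, 46, 100], [47, 100], [49]]), (61, [[39, 46, 101], [47, 101], [61]]), (51, [[51]]), (60, [[38, 39, 101], [39, 57, 100], [39, 100, 101], [41, 101], [58, 100], [60]]), (52, [[50, 100], [52]]), (62, [[48, 101], [62]]), (53, [[53]]), (63, [[38, 39, 46, 101], [39, 46, 57, 100], [39, 46, 100, 101], [47, 100, 101], [49, 101], [61, 100], [63]]), (54, [[39, 43, 46, 100], [43, 47, 100], [54]]), (64, [[39, 40, 46, 101], [40, 47, 101], [64]]), (65, [[38, 39, 47, 101], [39, 39, 46,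 100, 101], [39, 41, 46, 101], [39, 46, 58, 100], [39, 47, 57, 100], [39, 47, 100, 101], [41, 47, 101], [47, 58, 100], [65]]), (55, [[39, 44, 46, 100], [43, 48, 100], [44, 47, 100], [53, 100], [55]]), (67, [[39, 44, 46, 101], [40, 50, 101], [44, 47, 101], [53, 101], [67]]), (66, [[38, 39, 40, 46, 101], [38, 39, 48, 101], [39, 40, 46, 57, 100], [39, 46, 59, 100], [39, 48, 57, 100], [39, 48, 100, 101], [41, 48, 101], [47, 59, 100], [48, 58, 100], [64, 100], [66]]), (68, [[38, 39, 43, 46, 101], [38, 39, 50, 101], [39, 43, 46, 57, 100], [39, 45, 46, 101], [39, 50, 57, 100], [39, 50, 100, 101], [41, 50, 101], [45, 47, 101], [50, 58, 100], [54, 101], [68]]), (69, [[38, 39, 44, 46, 101], [38, 39, 51, 101], [39, 44, 46, 57, 100], [39, 44, 46, 100, 101], [39, 51, 57, 100], [39, 51, 100, 101], [41, 51, 101], [44, 47, 100, 101], [45, 48, 101], [50, 59, 100], [51, 58, 100], [53, 100, 101], [55, 101], [67, 100], [69]]), (70, [[38, 39, 40, 43, 46, 101],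 [38, 39, 44, 47, 101], [39, 39, 44, 46, 100, 101], [39, 40, 43, 46, 57, 100], [39, 40, 43, 46, 100, 101], [39, 40, 45, 46, 101], [39, 41, 44, 46, 101], [39, 43, 46, 59, 100], [39, 44, 46, 58, 100], [39, 44, 47, 57, 100], [39, 44, 47, 100, 101], [40, 43, 47, 100, 101], [40, 45, 47, 101], [41, 44, 47, 101], [43, 47, 59, 100], [44, 47, 58, 100], [70]]), (71, [[38, 39, 40, 46, 50, 101], [38, 39, 43, 46, 48, 101], [38, 39, 46, 53, 101], [38, 39, 47, 51, 101], [38, 39, 48, 50, 101], [39, 39, 44, 46, 46, 100, 101], [39, 39, 46, 51, 100, 101], [39, 40, 46, 50, 57, 100], [39, 40, 46, 52, 101], [39, 41, 46, 51, 101], [39, 43, 46, 48, 57, 100], [39, 43, 46, 62, 100], [39, 44, 46, 49, 101], [39, 44, 46, 61, 100], [39, 46, 51, 58, 100], [39, 46, 53, 57, 100], [39, 46, 53, 100, 101], [39, 47, 51, 57, 100], [39, 47, 51, 100, 101], [39, 48, 50, 57, 100], [39, 48, 50, 100, 101], [40, 47, 52, 101], [40, 49, 50, 101], [41, 47, 51, 101], [41, 48, 50, 101],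 [43, 47, 62, 100], [43, 48, 61, 100], [44, 47, 47, 100, 101], [44, 47, 49, 101], [44, 47, 61, 100], [47, 51, 58, 100], [47, 53, 100, 101], [48, 50, 58, 100], [49, 53, 101], [53, 61, 100], [71]])]

theorem F38_eq : NFW (wY 38 ++ idW Lr ++ (wY 38).reverse) = F38 := by decide +kernel

/-- The conjugate of the generic element by the root element 40. -/
def F40 : Wd := [(36, [[36]]), (56, [[56]]), (37, [[37]]), (42, [[42]]), (39, [[39]]), (46, [[46]]), (38, [[38]]), (57, [[57]]), (40, [[40]]), (43, [[43]]), (47, [[47]]), (41, [[36, 100], [41]]), (58, [[56, 101], [58]]), (44, [[37, 101], [42, 100], [44]]), (48, [[46, 100], [48]]), (50, [[46, 101], [50]]), (45, [[36, 42, 100], [38, 101], [45]]), (59, [[37, 56, 101], [57, 100], [59]]), (49, [[36, 46, 100], [49]]), (61, [[46, 56, 101], [61]]), (51, [[37, 46, 101], [42, 46, 100], [51]]), (60, [[36, 57, 100], [38, 56, 101], [60]]), (52, [[36, 42, 46, 100], [38, 46, 101], [52]]), (62, [[37, 46, 56,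 101], [46, 57, 100], [62]]), (53, [[37, 47, 101], [40, 46, 101], [42, 47, 100], [43, 46, 100], [46, 100, 101], [48, 101], [50, 100], [53]]), (63, [[36, 46, 57, 100], [38, 46, 56, 101], [63]]), (54, [[36, 42, 47, 100], [36, 43, 46, 100], [38, 47, 101], [41, 46, 101], [49, 101], [54]]), (64, [[37, 47, 56, 101], [40, 46, 56, 101], [46, 58, 100], [47, 57, 100], [61, 100], [64]]), (65, [[36, 46, 56, 100, 101], [36, 46, 58, 100], [36, 47, 57, 100], [38, 47, 56, 101], [41, 46, 56, 101], [65]]), (55, [[36, 37, 46, 100, 101], [36, 40, 42, 46, 100], [36, 42, 48, 100], [36, 44, 46, 100], [37, 41, 46, 101], [38, 40, 46, 101], [38, 46, 100, 101], [38, 48, 101], [41, 42, 46, 100], [52, 100], [55]]), (67, [[37, 43, 46, 56, 101], [37, 46, 58, 101], [37, 50, 56, 101], [42, 46, 56, 100, 101], [42, 46, 58, 100], [43, 46, 57, 100], [44, 46, 56, 101], [46, 57, 100, 101], [50, 57, 100], [62, 101], [67]]), (66, [[36, 37, 46, 56, 100, 101], [36, 40, 46, 57, 100],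 [36, 46, 59, 100], [36, 48, 57, 100], [37, 41, 46, 56, 101], [38, 40, 46, 56, 101], [38, 46, 56, 100, 101], [38, 48, 56, 101], [41, 46, 57, 100], [63, 100], [66]]), (68, [[36, 42, 46, 56, 100, 101], [36, 42, 46, 58, 100], [36, 43, 46, 57, 100], [36, 46, 57, 100, 101], [36, 50, 57, 100], [38, 43, 46, 56, 101], [38, 46, 58, 101], [38, 50, 56, 101], [45, 46, 56, 101], [63, 101], [68]]), (69, [[36, 37, 42, 46, 56, 100, 101], [36, 42, 46, 57, 100, 100], [36, 42, 46, 59, 100], [36, 44, 46, 57, 100], [36, 51, 57, 100], [37, 38, 46, 56, 101, 101], [37, 45, 46, 56, 101], [38, 44, 46, 56, 101], [38, 46, 57, 100, 101], [38, 46, 59, 101], [38, 51, 56, 101], [45, 46, 57, 100], [69]]), (70, [[36, 37, 42, 47, 56, 100, 101], [36, 37, 43, 46, 56, 100, 101], [36, 37, 46, 56, 100, 101, 101], [36, 37, 46, 58, 100, 101], [36, 37, 47, 57, 100, 101], [36, 40, 42, 46, 56, 100, 101], [36, 40, 42, 46, 58, 100], [36, 40, 43, 46, 57, 100], [36, 42, 46, 56, 100, 100,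 101], [36, 42, 46, 58, 100, 100], [36, 42, 47, 59, 100], [36, 43, 46, 57, 100, 100], [36, 43, 46, 59, 100], [36, 44, 46, 56, 100, 101], [36, 44, 46, 58, 100], [36, 44, 47, 57, 100], [37, 41, 43, 46, 56, 101], [37, 41, 46, 56, 101, 101], [37, 41, 46, 58, 101], [37, 45, 47, 56, 101], [37, 47, 60, 101], [38, 40, 43, 46, 56, 101], [38, 40, 46, 56, 101, 101], [38, 40, 46, 58, 101], [38, 42, 47, 56, 100, 101], [38, 44, 47, 56, 101], [38, 47, 57, 100, 101], [38, 47, 59, 101], [40, 45, 46, 56, 101], [40, 46, 60, 101], [41, 42, 46, 56, 100, 101], [41, 42, 46, 58, 100], [41, 43, 46, 57, 100], [41, 44, 46, 56, 101], [41, 46, 59, 101], [42, 47, 60, 100], [43, 46, 60, 100], [45, 46, 58, 100], [45, 47, 57, 100], [46, 60, 100, 101], [48, 60, 101], [50, 60, 100], [63, 100, 101], [66, 101], [68, 100], [70]]), (71, [[36, 37, 42, 46, 47, 56, 100, 101], [36, 37, 43, 46, 46, 56, 100, 101], [36, 37, 46, 46, 58, 100, 101], [36, 37, 46, 61, 100, 101], [36, 40,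 42, 46, 46, 56, 100, 101], [36, 40, 42, 46, 61, 100], [36, 40, 46, 50, 57, 100], [36, 42, 46, 47, 57, 100, 100], [36, 42, 46, 48, 58, 100], [36, 42, 47, 62, 100], [36, 42, 48, 61, 100], [36, 43, 46, 46, 57, 100, 100], [36, 43, 46, 48, 57, 100], [36, 43, 46, 62, 100], [36, 44, 46, 46, 56, 100, 101], [36, 44, 46, 61, 100], [36, 46, 51, 56, 100, 101], [36, 46, 51, 58, 100], [36, 46, 53, 57, 100], [36, 47, 51, 57, 100], [36, 48, 50, 57, 100], [37, 38, 46, 47, 56, 101, 101], [37, 41, 46, 50, 56, 101], [37, 41, 46, 61, 101], [37, 43, 46, 49, 56, 101], [37, 46, 49, 58, 101], [37, 47, 52, 56, 101], [37, 49, 50, 56, 101], [38, 40, 46, 46, 56, 101, 101], [38, 40, 46, 50, 56, 101], [38, 40, 46, 61, 101], [38, 43, 46, 48, 56, 101], [38, 46, 46, 58, 100, 101], [38, 46, 47, 57, 100, 101], [38, 46, 48, 58, 101], [38, 46, 53, 56, 101], [38, 46, 61, 100, 101], [38, 47, 51, 56, 101], [38, 47, 62, 101], [38, 48, 50, 56, 101], [38, 48, 61, 101], [40, 46, 52,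 56, 101], [41, 42, 46, 46, 56, 100, 101], [41, 42, 46, 61, 100], [41, 46, 46, 57, 100, 101], [41, 46, 50, 57, 100], [41, 46, 51, 56, 101], [41, 46, 62, 101], [42, 46, 49, 56, 100, 101], [42, 46, 49, 58, 100], [43, 46, 49, 57, 100], [44, 46, 49, 56, 101], [46, 49, 57, 100, 101], [46, 52, 58, 100], [47, 52, 57, 100], [49, 50, 57, 100], [49, 62, 101], [52, 61, 100], [71]])]

theorem F40_eq : NFW (wY 40 ++ idW Lr ++ (wY 40).reverse) = F40 := by decide +kernel

/-- The conjugate of the generic element by the root element 47. -/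
def F47 : Wd := [(36, [[36]]), (56, [[56]]), (37, [[37]]), (42, [[42]]), (39, [[39]]), (46, [[46]]), (38, [[38]]), (57, [[57]]), (40, [[40]]), (43, [[43]]), (47, [[47]]), (41, [[41]]), (58, [[58]]), (44, [[44]]), (48, [[37, 100], [48]]), (50, [[42, 100], [50]]), (45, [[45]]), (59, [[59]]), (49, [[38, 100], [49]]), (61, [[57, 100], [61]]), (51, [[37, 42, 100], [51]]), (60, [[60]]), (52, [[38, 42, 100], [52]]), (62, [[37, 57, 100], [62]]), (53, [[37, 39, 42, 100], [37, 43, 100], [40, 42, 100], [44, 100], [53]]), (63, [[38, 57, 100], [63]]), (54, [[38, 43, 100], [41, 42, 100], [45, 100], [54]]), (64, [[37, 58, 100], [40, 57, 100], [59, 100], [64]]), (65, [[38, 58, 100], [41, 57, 100], [60, 100], [65]]), (55, [[37, 38, 39, 42, 100], [37, 41, 42, 100], [38, 40, 42, 100], [38, 44, 100], [55]]), (67, [[37, 39, 42, 57, 100], [37, 42, 58, 100], [37, 43, 57, 100], [44, 57, 100], [67]]), (66, [[37, 41, 57, 100], [38, 40, 57, 100], [38, 59, 100], [66]]),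 (68, [[38, 42, 58, 100], [38, 43, 57, 100], [45, 57, 100], [68]]), (69, [[37, 38, 39, 42, 57, 100], [37, 45, 57, 100], [38, 42, 59, 100], [38, 44, 57, 100], [69]]), (70, [[37, 38, 39, 42, 58, 100], [37, 39, 41, 42, 57, 100], [37, 39, 42, 60, 100], [37, 41, 42, 58, 100], [37, 41, 43, 57, 100], [37, 43, 60, 100], [37, 45, 58, 100], [38, 40, 42, 58, 100], [38, 40, 43, 57, 100], [38, 43, 59, 100], [38, 44, 58, 100], [40, 42, 60, 100], [40, 45, 57, 100], [41, 42, 59, 100], [41, 44, 57, 100], [44, 60, 100], [45, 59, 100], [70]]), (71, [[37, 38, 39, 42, 47, 57, 100], [37, 38, 39, 42, 61, 100], [37, 38, 43, 57, 100, 100], [37, 39, 42, 49, 57, 100], [37, 41, 42, 61, 100], [37, 41, 50, 57, 100], [37, 42, 49, 58, 100], [37, 43, 49, 57, 100], [37, 52, 58, 100], [38, 40, 42, 57, 100, 100], [38, 40, 42, 61, 100], [38, 40, 50, 57, 100], [38, 42, 48, 58, 100], [38, 43, 48, 57, 100], [38, 43, 62, 100], [38, 44, 61, 100], [38, 51, 58, 100], [38, 53, 57, 100],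 [40, 52, 57, 100], [41, 42, 62, 100], [41, 51, 57, 100], [44, 49, 57, 100], [45, 62, 100], [52, 59, 100], [69, 100], [71]])]

theorem F47_eq : NFW (wY 47 ++ idW Lr ++ (wY 47).reverse) = F47 := by decide +kernel

/-- The conjugate of the generic element by the root element 41. -/
def F41 : Wd := [(36, [[36]]), (56, [[56]]), (37, [[37]]), (42, [[42]]), (39, [[39]]), (46, [[46]]), (38, [[38]]), (57, [[57]]), (40, [[40]]), (43, [[43]]), (47, [[47]]), (41, [[41]]), (58, [[58]]), (44, [[44]]), (48, [[48]]), (50, [[50]]), (45, [[42, 100], [45]]), (59, [[37, 101], [59]]), (49, [[46, 100], [49]]), (61, [[46, 101], [61]]), (51, [[51]]), (60, [[38, 101], [57, 100], [60]]), (52, [[42, 46, 100], [52]]), (62, [[37, 46, 101], [62]]), (53, [[53]]), (63, [[38, 46, 101], [46, 57, 100], [63]]), (54, [[42, 47, 100], [43, 46, 100], [50, 100], [54]]), (64, [[37, 47, 101], [40, 46, 101], [48, 101], [64]]), (65, [[38, 47, 101], [41, 46, 101], [46, 58, 100], [46,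 100, 101], [47, 57, 100], [49, 101], [61, 100], [65]]), (55, [[40, 42, 46, 100], [42, 48, 100], [44, 46, 100], [51, 100], [55]]), (67, [[37, 43, 46, 101], [37, 50, 101], [44, 46, 101], [51, 101], [67]]), (66, [[37, 41, 46, 101], [38, 40, 46, 101], [38, 48, 101], [40, 46, 57, 100], [46, 59, 100], [48, 57, 100], [62, 100], [66]]), (68, [[38, 43, 46, 101], [38, 50, 101], [42, 46, 58, 100], [43, 46, 57, 100], [45, 46, 101], [50, 57, 100], [52, 101], [68]]), (69, [[37, 42, 46, 100, 101], [37, 45, 46, 101], [38, 44, 46, 101], [38, 51, 101], [42, 46, 59, 100], [44, 46, 57, 100], [51, 57, 100], [69]]), (70, [[37, 41, 43, 46, 101], [37, 42, 47, 100, 101], [37, 45, 47, 101], [38, 40, 43, 46, 101], [38, 44, 47, 101], [40, 42, 46, 58, 100], [40, 43, 46, 57, 100], [40, 45, 46, 101], [41, 44, 46, 101], [42, 47, 59, 100], [43, 46, 59, 100], [44, 46, 58, 100], [44, 46, 100, 101], [44, 47, 57, 100], [45, 48, 101], [50, 59, 100], [51, 100, 101], [55, 101],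 [67, 100], [70]]), (71, [[37, 41, 46, 50, 101], [37, 42, 46, 47, 100, 101], [37, 43, 46, 46, 100, 101], [37, 43, 46, 49, 101], [37, 46, 50, 100, 101], [37, 47, 52, 101], [37, 49, 50, 101], [38, 40, 46, 50, 101], [38, 43, 46, 48, 101], [38, 46, 53, 101], [38, 47, 51, 101], [38, 48, 50, 101], [40, 42, 46, 46, 100, 101], [40, 42, 46, 61, 100], [40, 46, 50, 57, 100], [40, 46, 52, 101], [41, 46, 51, 101], [42, 46, 48, 58, 100], [42, 46, 48, 100, 101], [42, 47, 62, 100], [42, 48, 61, 100], [43, 46, 48, 57, 100], [43, 46, 62, 100], [44, 46, 46, 100, 101], [44, 46, 49, 101], [44, 46, 61, 100], [46, 51, 58, 100], [46, 51, 100, 101], [46, 53, 57, 100], [47, 51, 57, 100], [48, 50, 57, 100], [48, 52, 101], [49, 51, 101], [50, 62, 100], [51, 61, 100], [71]])]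

theorem F41_eq : NFW (wY 41 ++ idW Lr ++ (wY 41).reverse) = F41 := by decide +kernel

/-- The conjugate of the generic element by the root element 44. -/
def F44 : Wd := [(36, [[36]]), (56, [[56]]), (37, [[37]]), (42, [[42]]), (39, [[39]]), (46, [[46]]), (38, [[38]]), (57, [[57]]), (40, [[40]]), (43, [[43]]), (47, [[47]]), (41, [[41]]), (58, [[58]]), (44, [[44]]), (48, [[48]]), (50, [[50]]), (45, [[36, 100], [45]]), (59, [[56, 100], [59]]), (49, [[49]]), (61, [[61]]), (51, [[46, 100], [51]]), (60, [[36, 56, 100], [60]]), (52, [[36, 46, 100], [52]]), (62, [[46, 56, 100], [62]]), (53, [[47, 100], [53]]), (63, [[36, 46, 56, 100], [63]]), (54, [[36, 47, 100], [54]]), (64, [[47, 56, 100], [64]]), (65, [[36, 47, 56, 100], [65]]), (55, [[36, 40, 46, 100], [36, 48, 100], [41, 46, 100], [49, 100], [55]]), (67, [[43, 46, 56, 100], [46, 58, 100], [50, 56, 100], [61, 100], [67]]), (66, [[36, 40, 46, 56, 100], [36, 48, 56, 100], [41, 46, 56, 100], [66]]),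 (68, [[36, 43, 46, 56, 100], [36, 46, 58, 100], [36, 50, 56, 100], [68]]), (69, [[36, 44, 46, 56, 100], [36, 46, 59, 100], [36, 51, 56, 100], [45, 46, 56, 100], [63, 100], [69]]), (70, [[36, 40, 43, 46, 56, 100], [36, 40, 46, 58, 100], [36, 44, 47, 56, 100], [36, 47, 56, 100, 100], [36, 47, 59, 100], [41, 43, 46, 56, 100], [41, 46, 58, 100], [45, 47, 56, 100], [47, 60, 100], [65, 100], [70]]), (71, [[36, 40, 46, 50, 56, 100], [36, 40, 46, 61, 100], [36, 43, 46, 48, 56, 100], [36, 46, 47, 56, 100, 100], [36, 46, 48, 58, 100], [36, 46, 53, 56, 100], [36, 47, 51, 56, 100], [36, 47, 62, 100], [36, 48, 50, 56, 100], [36, 48, 61, 100], [41, 46, 50, 56, 100], [41, 46, 61, 100], [43, 46, 49, 56, 100], [46, 49, 58, 100], [47, 52, 56, 100], [49, 50, 56, 100], [49, 61, 100], [71]])]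

theorem F44_eq : NFW (wY 44 ++ idW Lr ++ (wY 44).reverse) = F44 := by decide +kernel

/-- The conjugate of the generic element by the root element 48. -/
def F48 : Wd := [(36, [[36]]), (56, [[56]]), (37, [[37]]), (42, [[42]]), (39, [[39]]), (46, [[46]]), (38, [[38]]), (57, [[57]]), (40, [[40]]), (43, [[43]]), (47, [[47]]), (41, [[41]]), (58, [[58]]), (44, [[44]]), (48, [[48]]), (50, [[50]]), (45, [[45]]), (59, [[59]]), (49, [[36, 100], [49]]), (61, [[56, 101], [61]]), (51, [[37, 101], [42, 100], [51]]), (60, [[60]]), (52, [[36, 42, 100], [38, 101], [52]]), (62, [[37, 56, 101], [57, 100], [62]]), (53, [[37, 39, 101], [39, 42, 100], [40, 101], [43, 100], [53]]), (63, [[36, 57, 100], [38, 56, 101], [63]]), (54, [[36, 39, 42, 100], [36, 43, 100], [41, 101], [54]]), (64, [[37, 39, 56, 101], [40, 56, 101], [58, 100], [64]]), (65, [[36, 58, 100], [41, 56, 101], [65]]), (55, [[36, 40, 42, 100], [36, 44, 100], [37, 38, 39, 101], [37, 41, 101], [38,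 39, 42, 100], [38, 40, 101], [41, 42, 100], [45, 100], [55]]), (67, [[37, 39, 57, 101], [37, 43, 56, 101], [37, 58, 101], [39, 42, 57, 100], [42, 58, 100], [43, 57, 100], [44, 56, 101], [59, 101], [67]]), (66, [[36, 40, 57, 100], [36, 59, 100], [37, 38, 39, 56, 101], [37, 41, 56, 101], [38, 40, 56, 101], [41, 57, 100], [60, 100], [66]]), (68, [[36, 39, 42, 57, 100], [36, 42, 58, 100], [36, 43, 57, 100], [38, 43, 56, 101], [38, 58, 101], [45, 56, 101], [60, 101], [68]]), (69, [[36, 42, 59, 100], [36, 44, 57, 100], [37, 38, 39, 57, 101], [37, 45, 56, 101], [38, 39, 42, 57, 100], [38, 44, 56, 101], [38, 59, 101], [45, 57, 100], [69]]), (70, [[36, 39, 40, 42, 57, 100], [36, 39, 42, 59, 100], [36, 40, 42, 58, 100], [36, 40, 43, 57, 100], [36, 43, 59, 100], [36, 44, 58, 100], [37, 38, 39, 43, 56, 101], [37, 38, 39, 58, 101], [37, 39, 41, 57, 101], [37, 39, 45, 56, 101], [37, 39, 60, 101], [37, 41, 43, 56, 101], [37, 41, 58, 101], [38, 39, 42,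 58, 100], [38, 40, 43, 56, 101], [38, 40, 58, 101], [39, 41, 42, 57, 100], [39, 42, 60, 100], [40, 45, 56, 101], [40, 60, 101], [41, 42, 58, 100], [41, 43, 57, 100], [41, 44, 56, 101], [41, 59, 101], [43, 60, 100], [45, 58, 100], [70]]), (71, [[36, 37, 39, 42, 56, 100, 101], [36, 37, 39, 57, 100, 101], [36, 37, 43, 56, 100, 101], [36, 37, 58, 100, 101], [36, 39, 42, 48, 57, 100], [36, 39, 42, 62, 100], [36, 40, 42, 56, 100, 101], [36, 40, 42, 61, 100], [36, 40, 50, 57, 100], [36, 40, 57, 100, 101], [36, 42, 48, 58, 100], [36, 42, 58, 100, 100], [36, 43, 48, 57, 100], [36, 43, 62, 100], [36, 44, 56, 100, 101], [36, 44, 61, 100], [36, 51, 58, 100], [36, 53, 57, 100], [37, 38, 39, 47, 57, 101], [37, 38, 39, 50, 56, 101], [37, 38, 39, 61, 101], [37, 39, 49, 57, 101], [37, 39, 52, 56, 101], [37, 41, 50, 56, 101], [37, 41, 56, 101, 101], [37, 41, 61, 101], [37, 43, 49, 56, 101], [37, 49, 58, 101], [38, 39, 42, 47, 57, 100], [38, 39, 42, 56, 100,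 101], [38, 39, 42, 61, 100], [38, 40, 50, 56, 101], [38, 40, 61, 101], [38, 43, 48, 56, 101], [38, 43, 56, 100, 101], [38, 48, 58, 101], [38, 53, 56, 101], [39, 42, 49, 57, 100], [40, 52, 56, 101], [41, 42, 56, 100, 101], [41, 42, 61, 100], [41, 50, 57, 100], [41, 51, 56, 101], [41, 62, 101], [42, 49, 58, 100], [43, 49, 57, 100], [44, 49, 56, 101], [45, 61, 100], [49, 59, 101], [52, 58, 100], [60, 100, 101], [66, 101], [68, 100], [71]])]

theorem F48_eq : NFW (wY 48 ++ idW Lr ++ (wY 48).reverse) = F48 := by decide +kernel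

/-- The conjugate of the generic element by the root element 45. -/
def F45 : Wd := [(36, [[36]]), (56, [[56]]), (37, [[37]]), (42, [[42]]), (39, [[39]]), (46, [[46]]), (38, [[38]]), (57, [[57]]), (40, [[40]]), (43, [[43]]), (47, [[47]]), (41, [[41]]), (58, [[58]]), (44, [[44]]), (48, [[48]]), (50, [[50]]), (45, [[45]]), (59, [[59]]), (49, [[49]]), (61, [[61]]), (51, [[51]]), (60, [[36, 101], [56, 100], [60]]), (52, [[46, 100], [52]]), (62, [[46, 101], [62]]), (53, [[53]]), (63, [[36, 46, 101], [46, 56, 100], [63]]), (54, [[47, 100], [54]]), (64, [[47, 101], [64]]), (65, [[36, 47, 101], [47, 56, 100], [65]]), (55, [[40, 46, 100], [48, 100], [55]]), (67, [[43, 46, 101], [50, 101], [67]]), (66, [[36, 40, 46, 101], [36, 48, 101], [40, 46, 56, 100], [41, 46, 101], [48, 56, 100], [49, 101], [66]]), (68, [[36, 43, 46, 101], [36, 50, 101], [43, 46, 56, 100], [46, 58, 100], [50, 56, 100], [61, 100], [68]]), (69, [[36, 44, 46, 101], [36, 51, 101],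 [44, 46, 56, 100], [45, 46, 101], [46, 59, 100], [46, 100, 101], [51, 56, 100], [52, 101], [62, 100], [69]]), (70, [[36, 40, 43, 46, 101], [36, 44, 47, 101], [40, 43, 46, 56, 100], [40, 46, 58, 100], [41, 43, 46, 101], [44, 47, 56, 100], [45, 47, 101], [47, 59, 100], [47, 100, 101], [54, 101], [64, 100], [70]]), (71, [[36, 40, 46, 50, 101], [36, 43, 46, 48, 101], [36, 46, 53, 101], [36, 47, 51, 101], [36, 48, 50, 101], [40, 46, 50, 56, 100], [40, 46, 61, 100], [41, 46, 50, 101], [43, 46, 48, 56, 100], [43, 46, 49, 101], [46, 47, 100, 101], [46, 48, 58, 100], [46, 53, 56, 100], [47, 51, 56, 100], [47, 52, 101], [47, 62, 100], [48, 50, 56, 100], [48, 61, 100], [49, 50, 101], [71]])]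

theorem F45_eq : NFW (wY 45 ++ idW Lr ++ (wY 45).reverse) = F45 := by decide +kernel

/-- The conjugate of the generic element by the root element 49. -/
def F49 : Wd := [(36, [[36]]), (56, [[56]]), (37, [[37]]), (42, [[42]]), (39, [[39]]), (46, [[46]]), (38, [[38]]), (57, [[57]]), (40, [[40]]), (43, [[43]]), (47, [[47]]), (41, [[41]]), (58, [[58]]), (44, [[44]]), (48, [[48]]), (50, [[50]]), (45, [[45]]), (59, [[59]]), (49, [[49]]), (61, [[61]]), (51, [[51]]), (60, [[60]]), (52, [[42, 100], [52]]), (62, [[37, 101], [62]]), (53, [[53]]), (63, [[38, 101], [57, 100], [63]]), (54, [[39, 42, 100], [43, 100], [54]]), (64, [[37, 39, 101], [40, 101], [64]]), (65, [[41, 101], [58, 100], [65]]), (55, [[40, 42, 100], [44, 100], [55]]), (67, [[37, 43, 101], [44, 101], [67]]), (66, [[37, 38, 39, 101], [37, 41, 101], [38, 40, 101], [40, 57, 100], [59, 100], [66]]), (68, [[38, 43, 101], [39, 42, 57, 100], [42, 58, 100], [43, 57, 100], [45, 101], [68]]),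 (69, [[37, 45, 101], [38, 44, 101], [42, 59, 100], [44, 57, 100], [69]]), (70, [[37, 38, 39, 43, 101], [37, 39, 45, 101], [37, 41, 43, 101], [38, 40, 43, 101], [39, 40, 42, 57, 100], [39, 42, 59, 100], [40, 42, 58, 100], [40, 43, 57, 100], [40, 45, 101], [41, 44, 101], [43, 59, 100], [44, 58, 100], [70]]), (71, [[37, 38, 39, 50, 101], [37, 39, 42, 100, 101], [37, 39, 52, 101], [37, 41, 50, 101], [37, 43, 49, 101], [38, 40, 50, 101], [38, 43, 48, 101], [38, 53, 101], [39, 42, 48, 57, 100], [39, 42, 62, 100], [40, 42, 61, 100], [40, 50, 57, 100], [40, 52, 101], [41, 51, 101], [42, 48, 58, 100], [43, 48, 57, 100], [43, 62, 100], [44, 49, 101], [44, 61, 100], [44, 100, 101], [51, 58, 100], [53, 57, 100], [55, 101], [67, 100], [71]])]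

theorem F49_eq : NFW (wY 49 ++ idW Lr ++ (wY 49).reverse) = F49 := by decide +kernel

/-- The conjugate of the generic element by the root element 51. -/
def F51 : Wd := [(36, [[36]]), (56, [[56]]), (37, [[37]]), (42, [[42]]), (39, [[39]]), (46, [[46]]), (38, [[38]]), (57, [[57]]), (40, [[40]]), (43, [[43]]), (47, [[47]]), (41, [[41]]), (58, [[58]]), (44, [[44]]), (48, [[48]]), (50, [[50]]), (45, [[45]]), (59, [[59]]), (49, [[49]]), (61, [[61]]), (51, [[51]]), (60, [[60]]), (52, [[36, 100], [52]]), (62, [[56, 100], [62]]), (53, [[39, 100], [53]]), (63, [[36, 56, 100], [63]]), (54, [[36, 39, 100], [54]]), (64, [[39, 56, 100], [64]]), (65, [[36, 39, 56, 100], [65]]), (55, [[36, 40, 100], [38, 39, 100], [41, 100], [55]]), (67, [[39, 57, 100], [43, 56, 100], [58, 100], [67]]), (66, [[36, 40, 56, 100], [38, 39, 56, 100], [41, 56, 100], [66]]), (68, [[36, 39, 57, 100], [36, 43, 56, 100], [36, 58, 100], [68]]), (69, [[36, 44, 56, 100], [36, 59,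 100], [38, 39, 57, 100], [45, 56, 100], [60, 100], [69]]), (70, [[36, 39, 40, 57, 100], [36, 39, 44, 56, 100], [36, 39, 59, 100], [36, 40, 43, 56, 100], [36, 40, 58, 100], [38, 39, 43, 56, 100], [38, 39, 58, 100], [39, 41, 57, 100], [39, 45, 56, 100], [39, 60, 100], [41, 43, 56, 100], [41, 58, 100], [70]]), (71, [[36, 39, 48, 57, 100], [36, 39, 51, 56, 100], [36, 39, 62, 100], [36, 40, 50, 56, 100], [36, 40, 61, 100], [36, 43, 48, 56, 100], [36, 48, 58, 100], [36, 53, 56, 100], [38, 39, 47, 57, 100], [38, 39, 50, 56, 100], [38, 39, 61, 100], [39, 49, 57, 100], [39, 52, 56, 100], [41, 50, 56, 100], [41, 61, 100], [43, 49, 56, 100], [49, 58, 100], [65, 100], [71]])]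

theorem F51_eq : NFW (wY 51 ++ idW Lr ++ (wY 51).reverse) = F51 := by decide +kernel

/-- The conjugate of the generic element by the root element 60. -/
def F60 : Wd := [(36, [[36]]), (56, [[56]]), (37, [[37]]), (42, [[42]]), (39, [[39]]), (46, [[46]]), (38, [[38]]), (57, [[57]]), (40, [[40]]), (43, [[43]]), (47, [[47]]), (41, [[41]]), (58, [[58]]), (44, [[44]]), (48, [[48]]), (50, [[50]]), (45, [[45]]), (59, [[59]]), (49, [[49]]), (61, [[61]]), (51, [[51]]), (60, [[60]]), (52, [[52]]), (62, [[62]]), (53, [[53]]), (63, [[46, 100], [63]]), (54, [[54]]), (64, [[64]]), (65, [[47, 100], [65]]), (55, [[55]]), (67, [[67]]), (66, [[40, 46, 100], [48, 100], [66]]), (68, [[43, 46, 100], [50, 100], [68]]), (69, [[44, 46, 100], [51, 100], [69]]), (70, [[40, 43, 46, 100], [44, 47, 100], [53, 100], [70]]), (71, [[40, 46, 50, 100], [43, 46, 48, 100], [46, 53, 100], [47, 51, 100], [48, 50, 100], [71]])]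

theorem F60_eq : NFW (wY 60 ++ idW Lr ++ (wY 60).reverse) = F60 := by decide +kernel

/-- The conjugate of the generic element by the root element 52. -/
def F52 : Wd := [(36, [[36]]), (56, [[56]]), (37, [[37]]), (42, [[42]]), (39, [[39]]), (46, [[46]]), (38, [[38]]), (57, [[57]]), (40, [[40]]), (43, [[43]]), (47, [[47]]), (41, [[41]]), (58, [[58]]), (44, [[44]]), (48, [[48]]), (50, [[50]]), (45, [[45]]), (59, [[59]]), (49, [[49]]), (61, [[61]]), (51, [[51]]), (60, [[60]]), (52, [[52]]), (62, [[62]]), (53, [[53]]), (63, [[36, 101], [56, 100], [63]]), (54, [[39, 100], [54]]), (64, [[39, 101], [64]]), (65, [[36, 39, 101], [39, 56, 100], [65]]), (55, [[40, 100], [55]]), (67, [[43, 101], [67]]), (66, [[36, 40, 101], [38, 39, 101], [40, 56, 100], [41, 101], [66]]), (68, [[36, 43, 101], [39, 57, 100], [43, 56, 100], [58, 100], [68]]), (69, [[36, 44, 101], [44, 56, 100], [45, 101], [59, 100], [69]]), (70, [[36, 39, 44, 101], [36, 40, 43, 101],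 [38, 39, 43, 101], [39, 40, 57, 100], [39, 44, 56, 100], [39, 45, 101], [39, 59, 100], [40, 43, 56, 100], [40, 58, 100], [41, 43, 101], [70]]), (71, [[36, 39, 51, 101], [36, 40, 50, 101], [36, 43, 48, 101], [36, 53, 101], [38, 39, 50, 101], [39, 48, 57, 100], [39, 51, 56, 100], [39, 52, 101], [39, 62, 100], [39, 100, 101], [40, 50, 56, 100], [40, 61, 100], [41, 50, 101], [43, 48, 56, 100], [43, 49, 101], [48, 58, 100], [53, 56, 100], [54, 101], [64, 100], [71]])]

theorem F52_eq : NFW (wY 52 ++ idW Lr ++ (wY 52).reverse) = F52 := by decide +kernel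

/-- The conjugate of the generic element by the root element 53. -/
def F53 : Wd := [(36, [[36]]), (56, [[56]]), (37, [[37]]), (42, [[42]]), (39, [[39]]), (46, [[46]]), (38, [[38]]), (57, [[57]]), (40, [[40]]), (43, [[43]]), (47, [[47]]), (41, [[41]]), (58, [[58]]), (44, [[44]]), (48, [[48]]), (50, [[50]]), (45, [[45]]), (59, [[59]]), (49, [[49]]), (61, [[61]]), (51, [[51]]), (60, [[60]]), (52, [[52]]), (62, [[62]]), (53, [[53]]), (63, [[63]]), (54, [[36, 100], [54]]), (64, [[56, 100], [64]]), (65, [[36, 56, 100], [65]]), (55, [[36, 37, 100], [38, 100], [55]]), (67, [[42, 56, 100], [57, 100], [67]]), (66, [[36, 37, 56, 100], [38, 56, 100], [66]]), (68, [[36, 42, 56, 100], [36, 57, 100], [68]]), (69, [[36, 37, 42, 56, 100], [36, 37, 57, 100], [38, 42, 56, 100], [38, 57, 100], [69]]), (70, [[36, 37, 39, 42, 56, 100], [36, 37, 43, 56, 100], [36, 37, 58, 100], [36, 40, 42, 56, 100], [36, 40, 57, 100], [36, 44, 56, 100], [36, 59, 100], [38,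 43, 56, 100], [38, 58, 100], [41, 42, 56, 100], [41, 57, 100], [45, 56, 100], [60, 100], [70]]), (71, [[36, 37, 39, 42, 46, 56, 100], [36, 37, 42, 47, 56, 100], [36, 37, 47, 57, 100], [36, 37, 50, 56, 100], [36, 37, 61, 100], [36, 42, 48, 56, 100], [36, 48, 57, 100], [36, 51, 56, 100], [36, 62, 100], [38, 42, 47, 56, 100], [38, 47, 57, 100], [38, 50, 56, 100], [38, 61, 100], [42, 49, 56, 100], [49, 57, 100], [52, 56, 100], [63, 100], [71]])]

theorem F53_eq : NFW (wY 53 ++ idW Lr ++ (wY 53).reverse) = F53 := by decide +kernel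

/-- The conjugate of the generic element by the root element 63. -/
def F63 : Wd := [(36, [[36]]), (56, [[56]]), (37, [[37]]), (42, [[42]]), (39, [[39]]), (46, [[46]]), (38, [[38]]), (57, [[57]]), (40, [[40]]), (43, [[43]]), (47, [[47]]), (41, [[41]]), (58, [[58]]), (44, [[44]]), (48, [[48]]), (50, [[50]]), (45, [[45]]), (59, [[59]]), (49, [[49]]), (61, [[61]]), (51, [[51]]), (60, [[60]]), (52, [[52]]), (62, [[62]]), (53, [[53]]), (63, [[63]]), (54, [[54]]), (64, [[64]]), (65, [[39, 100], [65]]), (55, [[55]]), (67, [[67]]), (66, [[40, 100], [66]]), (68, [[43, 100], [68]]), (69, [[44, 100], [69]]), (70, [[39, 44, 100], [40, 43, 100], [70]]), (71, [[39, 51, 100], [40, 50, 100], [43, 48, 100], [53, 100], [71]])]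

theorem F63_eq : NFW (wY 63 ++ idW Lr ++ (wY 63).reverse) = F63 := by decide +kernel

/-- The conjugate of the generic element by the root element 54. -/
def F54 : Wd := [(36, [[36]]), (56, [[56]]), (37, [[37]]), (42, [[42]]), (39, [[39]]), (46, [[46]]), (38, [[38]]), (57, [[57]]), (40, [[40]]), (43, [[43]]), (47, [[47]]), (41, [[41]]), (58, [[58]]), (44, [[44]]), (48, [[48]]), (50, [[50]]), (45, [[45]]), (59, [[59]]), (49, [[49]]), (61, [[61]]), (51, [[51]]), (60, [[60]]), (52, [[52]]), (62, [[62]]), (53, [[53]]), (63, [[63]]), (54, [[54]]), (64, [[64]]), (65, [[36, 101], [56, 100], [65]]), (55, [[37, 100], [55]]), (67, [[42, 101], [67]]), (66, [[36, 37, 101], [37, 56, 100], [38, 101], [66]]), (68, [[36, 42, 101], [42, 56, 100], [57, 100], [68]]), (69, [[36, 37, 42, 101], [37, 42, 56, 100], [37, 57, 100], [38, 42, 101], [69]]), (70, [[36, 37, 39, 42, 101], [36, 37, 43, 101], [36, 40, 42, 101], [36, 44, 101], [37, 39, 42, 56, 100], [37,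 43, 56, 100], [37, 58, 100], [38, 43, 101], [40, 42, 56, 100], [40, 57, 100], [41, 42, 101], [44, 56, 100], [45, 101], [59, 100], [70]]), (71, [[36, 37, 39, 42, 46, 101], [36, 37, 42, 47, 101], [36, 37, 50, 101], [36, 42, 48, 101], [36, 51, 101], [37, 39, 42, 46, 56, 100], [37, 42, 47, 56, 100], [37, 47, 57, 100], [37, 50, 56, 100], [37, 61, 100], [38, 42, 47, 101], [38, 50, 101], [42, 48, 56, 100], [42, 49, 101], [48, 57, 100], [51, 56, 100], [52, 101], [62, 100], [71]])]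

theorem F54_eq : NFW (wY 54 ++ idW Lr ++ (wY 54).reverse) = F54 := by decide +kernel

/-- The conjugate of the generic element by the root element 65. -/
def F65 : Wd := [(36, [[36]]), (56, [[56]]), (37, [[37]]), (42, [[42]]), (39, [[39]]), (46, [[46]]), (38, [[38]]), (57, [[57]]), (40, [[40]]), (43, [[43]]), (47, [[47]]), (41, [[41]]), (58, [[58]]), (44, [[44]]), (48, [[48]]), (50, [[50]]), (45, [[45]]), (59, [[59]]), (49, [[49]]), (61, [[61]]), (51, [[51]]), (60, [[60]]), (52, [[52]]), (62, [[62]]), (53, [[53]]), (63, [[63]]), (54, [[54]]), (64, [[64]]), (65, [[65]]), (55, [[55]]), (67, [[67]]), (66, [[37, 100], [66]]), (68, [[42, 100], [68]]), (69, [[37, 42, 100], [69]]), (70, [[37, 39, 42, 100], [37, 43, 100], [40, 42, 100], [44, 100], [70]]), (71, [[37, 39, 42, 46, 100], [37, 42, 47, 100], [37, 50, 100], [42, 48, 100], [51, 100], [71]])]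

theorem F65_eq : NFW (wY 65 ++ idW Lr ++ (wY 65).reverse) = F65 := by decide +kernel

/-- The conjugate of the generic element by the root element 55. -/
def F55 : Wd := [(36, [[36]]), (56, [[56]]), (37, [[37]]), (42, [[42]]), (39, [[39]]), (46, [[46]]), (38, [[38]]), (57, [[57]]), (40, [[40]]), (43, [[43]]), (47, [[47]]), (41, [[41]]), (58, [[58]]), (44, [[44]]), (48, [[48]]), (50, [[50]]), (45, [[45]]), (59, [[59]]), (49, [[49]]), (61, [[61]]), (51, [[51]]), (60, [[60]]), (52, [[52]]), (62, [[62]]), (53, [[53]]), (63, [[63]]), (54, [[54]]), (64, [[64]]), (65, [[65]]), (55, [[55]]), (67, [[67]]), (66, [[56, 100], [66]]), (68, [[36, 101], [68]]), (69, [[36, 37, 101], [38, 101], [42, 56, 100], [57, 100], [69]]), (70, [[36, 37, 39, 101], [36, 40, 101], [39, 42, 56, 100], [41, 101], [43, 56, 100], [58, 100], [70]]), (71, [[36, 37, 39, 46, 101], [36, 37, 47, 101], [36, 48, 101], [38, 47, 101], [39, 42, 46, 56, 100], [42, 47, 56, 100], [47,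 57, 100], [49, 101], [50, 56, 100], [61, 100], [71]])]

theorem F55_eq : NFW (wY 55 ++ idW Lr ++ (wY 55).reverse) = F55 := by decide +kernel

/-- The conjugate of the generic element by the root element 66. -/
def F66 : Wd := [(36, [[36]]), (56, [[56]]), (37, [[37]]), (42, [[42]]), (39, [[39]]), (46, [[46]]), (38, [[38]]), (57, [[57]]), (40, [[40]]), (43, [[43]]), (47, [[47]]), (41, [[41]]), (58, [[58]]), (44, [[44]]), (48, [[48]]), (50, [[50]]), (45, [[45]]), (59, [[59]]), (49, [[49]]), (61, [[61]]), (51, [[51]]), (60, [[60]]), (52, [[52]]), (62, [[62]]), (53, [[53]]), (63, [[63]]), (54, [[54]]), (64, [[64]]), (65, [[65]]), (55, [[55]]), (67, [[67]]), (66, [[66]]), (68, [[68]]), (69, [[37, 101], [42, 100], [69]]), (70, [[37, 39, 101], [39, 42, 100], [40, 101], [43, 100], [70]]), (71, [[37, 39, 46, 101], [37, 47, 101], [39, 42, 46, 100], [42, 47, 100], [48, 101], [50, 100], [71]])]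

theorem F66_eq : NFW (wY 66 ++ idW Lr ++ (wY 66).reverse) = F66 := by decide +kernel

/-- The conjugate of the generic element by the root element 69. -/
def F69 : Wd := [(36, [[36]]), (56, [[56]]), (37, [[37]]), (42, [[42]]), (39, [[39]]), (46, [[46]]), (38, [[38]]), (57, [[57]]), (40, [[40]]), (43, [[43]]), (47, [[47]]), (41, [[41]]), (58, [[58]]), (44, [[44]]), (48, [[48]]), (50, [[50]]), (45, [[45]]), (59, [[59]]), (49, [[49]]), (61, [[61]]), (51, [[51]]), (60, [[60]]), (52, [[52]]), (62, [[62]]), (53, [[53]]), (63, [[63]]), (54, [[54]]), (64, [[64]]), (65, [[65]]), (55, [[55]]), (67, [[67]]), (66, [[66]]), (68, [[68]]), (69, [[69]]), (70, [[39, 100], [70]]), (71, [[39, 46, 100], [47, 100], [71]])]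

theorem F69_eq : NFW (wY 69 ++ idW Lr ++ (wY 69).reverse) = F69 := by decide +kernel

/-- The conjugate of the generic element by the root element 70. -/
def F70 : Wd := [(36, [[36]]), (56, [[56]]), (37, [[37]]), (42, [[42]]), (39, [[39]]), (46, [[46]]), (38, [[38]]), (57, [[57]]), (40, [[40]]), (43, [[43]]), (47, [[47]]), (41, [[41]]), (58, [[58]]), (44, [[44]]), (48, [[48]]), (50, [[50]]), (45, [[45]]), (59, [[59]]), (49, [[49]]), (61, [[61]]), (51, [[51]]), (60, [[60]]), (52, [[52]]), (62, [[62]]), (53, [[53]]), (63, [[63]]), (54, [[54]]), (64, [[64]]), (65, [[65]]), (55, [[55]]), (67, [[67]]), (66, [[66]]), (68, [[68]]), (69, [[69]]), (70, [[70]]), (71, [[46, 100], [71]])]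

theorem F70_eq : NFW (wY 70 ++ idW Lr ++ (wY 70).reverse) = F70 := by decide +kernel

/-- The conjugate of the generic element by the root element 71. -/
def F71 : Wd := [(36, [[36]]), (56, [[56]]), (37, [[37]]), (42, [[42]]), (39, [[39]]), (46, [[46]]), (38, [[38]]), (57, [[57]]), (40, [[40]]), (43, [[43]]), (47, [[47]]), (41, [[41]]), (58, [[58]]), (44, [[44]]), (48, [[48]]), (50, [[50]]), (45, [[45]]), (59, [[59]]), (49, [[49]]), (61, [[61]]), (51, [[51]]), (60, [[60]]), (52, [[52]]), (62, [[62]]), (53, [[53]]), (63, [[63]]), (54, [[54]]), (64, [[64]]), (65, [[65]]), (55, [[55]]), (67, [[67]]), (66, [[66]]), (68, [[68]]), (69, [[69]]), (70, [[70]]), (71, [[71]])]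

theorem F71_eq : NFW (wY 71 ++ idW Lr ++ (wY 71).reverse) = F71 := by decide +kernel

/-- The square of the generic element. -/
def Sq : Wd := [(36, []), (56, []), (37, []), (42, []), (39, []), (46, []), (38, [[36, 37]]), (57, [[42, 56]]), (40, [[37, 39]]), (43, [[39, 42]]), (47, [[39, 46]]), (41, [[36, 40], [38, 39]]), (58, [[39, 57], [43, 56]]), (44, [[37, 39, 42], [37, 43], [40, 42]]), (48, [[37, 47], [40, 46]]), (50, [[42, 47], [43, 46]]), (45, [[36, 40, 42], [36, 44], [38, 43], [41, 42]]), (59, [[37, 43, 56], [37, 58], [40, 57], [44, 56]]), (49, [[36, 40, 46], [36, 48], [38, 39, 46], [38, 47], [41, 46]]), (61, [[39, 46, 57], [43, 46, 56], [46, 58], [47, 57], [50, 56]]), (51, [[37, 42, 47], [37, 43, 46], [37, 50], [40, 42, 46], [42, 48], [44, 46]]), (60, [[36, 40, 57], [36, 44, 56], [36, 59], [38, 39, 57], [38, 43, 56], [38, 58], [41, 57], [45, 56]]), (52, [[36, 40, 42, 46], [36, 42, 48], [36, 44, 46], [36, 51], [38, 42, 47], [38, 43,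 46], [38, 50], [41, 42, 46], [42, 49], [45, 46]]), (62, [[37, 43, 46, 56], [37, 46, 58], [37, 47, 57], [37, 50, 56], [37, 61], [40, 46, 57], [44, 46, 56], [46, 59], [48, 57], [51, 56]]), (53, [[37, 39, 39, 42, 46], [37, 39, 42, 47], [37, 39, 50], [37, 43, 47], [39, 42, 48], [39, 51], [40, 42, 47], [40, 43, 46], [40, 50], [43, 48], [44, 47]]), (63, [[36, 40, 46, 57], [36, 44, 46, 56], [36, 46, 59], [36, 48, 57], [36, 51, 56], [36, 62], [38, 39, 46, 57], [38, 43, 46, 56], [38, 46, 58], [38, 47, 57], [38, 50, 56], [38, 61], [41, 46, 57], [45, 46, 56], [46, 60], [49, 57], [52, 56]]), (54, [[36, 39, 42, 48], [36, 39, 51], [36, 43, 48], [36, 44, 47], [36, 53], [38, 43, 47], [39, 42, 49], [39, 52], [41, 42, 47], [41, 43, 46], [41, 50], [43, 49], [45, 47]]), (64, [[37, 39, 50, 56], [37, 39, 61], [37, 47, 58], [39, 51, 56], [39, 62], [40, 46, 58], [40, 47, 57], [40, 50, 56], [40, 61], [44, 47, 56], [47, 59], [48, 58], [53, 56]]), (65, [[36, 39, 40,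 46, 57], [36, 39, 51, 56], [36, 39, 62], [36, 40, 43, 46, 56], [36, 44, 47, 56], [36, 47, 59], [36, 48, 58], [36, 53, 56], [36, 64], [38, 39, 39, 46, 57], [38, 39, 43, 46, 56], [38, 47, 58], [39, 52, 56], [39, 63], [41, 46, 58], [41, 47, 57], [41, 50, 56], [41, 61], [45, 47, 56], [47, 60], [49, 58], [54, 56]]), (55, [[36, 37, 40, 42, 47], [36, 37, 40, 43, 46], [36, 37, 53], [36, 40, 42, 48], [36, 40, 44, 46], [36, 40, 51], [36, 44, 48], [37, 38, 39, 42, 47], [37, 38, 39, 43, 46], [37, 38, 39, 50], [37, 38, 43, 47], [37, 41, 50], [37, 54], [38, 39, 40, 42, 46], [38, 39, 42, 48], [38, 39, 51], [38, 40, 42, 47], [38, 40, 43, 46], [38, 40, 50], [38, 53], [40, 41, 42, 46], [40, 42, 49], [40, 45, 46], [40, 52], [41, 42, 48], [41, 44, 46], [41, 51], [44, 49], [45, 48]]), (67, [[37, 39, 42, 47, 57], [37, 39, 43, 46, 57], [37, 39, 50, 57], [37, 42, 43, 47, 56], [37, 43, 46, 58], [37, 43, 47, 57], [37, 43, 50, 56], [37, 43, 61], [37, 50, 58], [39,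 40, 42, 46, 57], [39, 42, 48, 57], [39, 51, 57], [40, 42, 43, 46, 56], [40, 42, 47, 57], [40, 43, 46, 57], [42, 48, 58], [42, 53, 56], [42, 64], [43, 44, 46, 56], [43, 46, 59], [43, 48, 57], [43, 51, 56], [43, 62], [44, 46, 58], [44, 50, 56], [44, 61], [50, 59], [51, 58], [53, 57]]), (66, [[36, 37, 40, 43, 46, 56], [36, 37, 40, 46, 58], [36, 37, 40, 47, 57], [36, 37, 53, 56], [36, 37, 64], [36, 40, 46, 59], [36, 40, 48, 57], [36, 40, 51, 56], [36, 40, 62], [36, 48, 59], [37, 38, 39, 43, 46, 56], [37, 38, 39, 46, 58], [37, 38, 39, 47, 57], [37, 38, 39, 50, 56], [37, 38, 39, 61], [37, 38, 43, 47, 56], [37, 38, 47, 58], [37, 41, 50, 56], [37, 41, 61], [37, 54, 56], [37, 65], [38, 39, 44, 46, 56], [38, 39, 51, 56], [38, 39, 62], [38, 40, 43, 46, 56], [38, 40, 46, 58], [38, 40, 47, 57], [38, 40, 50, 56], [38, 40, 61], [38, 44, 47, 56], [38, 53, 56], [38, 64], [40, 41, 46, 57], [40, 45, 46, 56], [40, 46, 60], [40, 49, 57], [40, 52, 56], [40, 63],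 [41, 46, 59], [41, 48, 57], [41, 51, 56], [41, 62], [45, 48, 56], [48, 60], [49, 59], [55, 56]]), (68, [[36, 39, 40, 42, 46, 57], [36, 39, 42, 48, 57], [36, 39, 44, 46, 57], [36, 39, 51, 57], [36, 40, 42, 43, 46, 56], [36, 40, 42, 47, 57], [36, 40, 43, 46, 57], [36, 42, 48, 58], [36, 42, 53, 56], [36, 42, 64], [36, 43, 46, 59], [36, 43, 48, 57], [36, 43, 51, 56], [36, 43, 62], [36, 44, 47, 57], [36, 50, 59], [36, 51, 58], [36, 53, 57], [36, 67], [38, 39, 42, 47, 57], [38, 42, 43, 47, 56], [38, 43, 46, 58], [38, 43, 47, 57], [38, 43, 50, 56], [38, 43, 61], [38, 50, 58], [39, 41, 42, 46, 57], [39, 42, 49, 57], [39, 52, 57], [41, 42, 43, 46, 56], [41, 42, 47, 57], [41, 43, 46, 57], [42, 49, 58], [42, 54, 56], [42, 65], [43, 45, 46, 56], [43, 46, 60], [43, 49, 57], [43, 52, 56], [43, 63], [45, 46, 58], [45, 50, 56], [45, 61], [50, 60], [52, 58], [54, 57]]), (69, [[36, 37, 40, 42, 43, 46, 56], [36, 37, 40, 42, 46, 58], [36, 37, 40, 42, 47, 57],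 [36, 37, 40, 50, 57], [36, 37, 42, 53, 56], [36, 37, 42, 64], [36, 37, 43, 44, 46, 56], [36, 37, 44, 46, 58], [36, 37, 44, 47, 57], [36, 37, 44, 50, 56], [36, 37, 53, 57], [36, 37, 67], [36, 40, 40, 42, 46, 57], [36, 40, 42, 44, 46, 56], [36, 40, 42, 48, 57], [36, 42, 44, 48, 56], [36, 44, 46, 59], [36, 44, 48, 57], [36, 44, 51, 56], [36, 44, 62], [36, 51, 59], [37, 38, 42, 43, 47, 56], [37, 38, 42, 47, 58], [37, 38, 43, 43, 46, 56], [37, 38, 43, 46, 58], [37, 38, 43, 50, 56], [37, 38, 50, 58], [37, 41, 42, 43, 46, 56], [37, 41, 42, 46, 58], [37, 41, 42, 47, 57], [37, 41, 50, 57], [37, 42, 54, 56], [37, 42, 65], [37, 45, 61], [37, 54, 57], [37, 68], [38, 39, 44, 46, 57], [38, 39, 51, 57], [38, 40, 43, 46, 57], [38, 42, 43, 48, 56], [38, 42, 44, 47, 56], [38, 42, 48, 58], [38, 42, 53, 56], [38, 42, 64], [38, 44, 46, 58], [38, 44, 50, 56], [38, 44, 61], [38, 53, 57], [38, 67], [40, 41, 42, 46, 57], [41, 42, 44, 46, 56], [41, 42, 48, 57], [41,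 44, 46, 57], [42, 49, 59], [42, 55, 56], [42, 66], [44, 45, 46, 56], [44, 46, 60], [44, 49, 57], [44, 52, 56], [44, 63], [45, 46, 59], [45, 51, 56], [45, 62], [51, 60], [52, 59], [55, 57]]), (70, [[36, 37, 39, 39, 40, 42, 46, 57], [36, 37, 39, 39, 42, 44, 46, 56], [36, 37, 39, 39, 42, 46, 59], [36, 37, 39, 40, 43, 46, 57], [36, 37, 39, 42, 44, 47, 56], [36, 37, 39, 42, 47, 59], [36, 37, 39, 42, 53, 56], [36, 37, 39, 42, 64], [36, 37, 39, 50, 59], [36, 37, 39, 67], [36, 37, 40, 43, 43, 46, 56], [36, 37, 43, 44, 47, 56], [36, 37, 43, 47, 59], [36, 37, 43, 53, 56], [36, 37, 43, 64], [36, 37, 44, 47, 58], [36, 37, 53, 58], [36, 39, 40, 40, 42, 46, 57], [36, 39, 40, 42, 48, 57], [36, 39, 40, 51, 57], [36, 39, 42, 48, 59], [36, 39, 44, 51, 56], [36, 39, 44, 62], [36, 39, 51, 59], [36, 40, 40, 42, 43, 46, 56], [36, 40, 42, 44, 47, 56], [36, 40, 42, 47, 59], [36, 40, 42, 48, 58], [36, 40, 42, 53, 56], [36, 40, 42, 64], [36, 40, 43, 48, 57], [36,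 40, 43, 51, 56], [36, 40, 43, 62], [36, 40, 44, 47, 57], [36, 40, 50, 59], [36, 40, 51, 58], [36, 40, 53, 57], [36, 40, 67], [36, 43, 48, 59], [36, 44, 44, 47, 56], [36, 44, 48, 58], [36, 44, 53, 56], [36, 44, 64], [36, 53, 59], [37, 38, 39, 39, 39, 42, 46, 57], [37, 38, 39, 39, 42, 43, 46, 56], [37, 38, 39, 39, 42, 46, 58], [37, 38, 39, 39, 43, 46, 57], [37, 38, 39, 42, 47, 58], [37, 38, 39, 43, 43, 46, 56], [37, 38, 39, 43, 50, 56], [37, 38, 39, 43, 61], [37, 38, 39, 50, 58], [37, 39, 39, 41, 42, 46, 57], [37, 39, 39, 42, 45, 46, 56], [37, 39, 41, 42, 47, 57], [37, 39, 41, 50, 57], [37, 39, 42, 45, 47, 56], [37, 39, 42, 54, 56], [37, 39, 42, 65], [37, 39, 45, 50, 56], [37, 39, 45, 61], [37, 39, 68], [37, 41, 42, 47, 58], [37, 41, 43, 47, 57], [37, 41, 43, 50, 56], [37, 41, 43, 61], [37, 41, 50, 58], [37, 43, 45, 47, 56], [37, 43, 54, 56], [37, 43, 65], [37, 54, 58], [38, 39, 39, 40, 42, 46, 57], [38, 39, 40, 42, 43, 46, 56], [38, 39, 42,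 48, 58], [38, 39, 43, 51, 56], [38, 39, 43, 62], [38, 39, 51, 58], [38, 40, 42, 47, 58], [38, 40, 43, 47, 57], [38, 40, 43, 50, 56], [38, 40, 43, 61], [38, 40, 50, 58], [38, 43, 44, 47, 56], [38, 43, 53, 56], [38, 43, 64], [38, 53, 58], [39, 40, 42, 49, 57], [39, 40, 52, 57], [39, 41, 42, 48, 57], [39, 41, 51, 57], [39, 42, 45, 48, 56], [39, 42, 49, 59], [39, 42, 55, 56], [39, 42, 66], [39, 44, 52, 56], [39, 44, 63], [39, 45, 51, 56], [39, 45, 62], [39, 52, 59], [39, 69], [40, 42, 45, 47, 56], [40, 42, 49, 58], [40, 42, 54, 56], [40, 42, 65], [40, 43, 46, 60], [40, 43, 49, 57], [40, 43, 52, 56], [40, 43, 63], [40, 45, 46, 58], [40, 45, 50, 56], [40, 45, 61], [40, 52, 58], [40, 54, 57], [40, 68], [41, 42, 44, 47, 56], [41, 42, 48, 58], [41, 42, 53, 56], [41, 42, 64], [41, 43, 46, 59], [41, 43, 48, 57], [41, 43, 51, 56], [41, 43, 62], [41, 44, 46, 58], [41, 44, 50, 56], [41, 44, 61], [41, 51, 58], [41, 53, 57], [41, 67], [43, 45, 48, 56],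 [43, 49, 59], [43, 55, 56], [43, 66], [44, 47, 60], [44, 49, 58], [44, 54, 56], [44, 65], [45, 47, 59], [45, 53, 56], [45, 64], [53, 60], [54, 59], [55, 58]]), (71, [[36, 37, 39, 42, 46, 53, 56], [36, 37, 39, 42, 46, 64], [36, 37, 39, 42, 47, 48, 57], [36, 37, 39, 42, 48, 50, 56], [36, 37, 39, 42, 48, 61], [36, 37, 39, 43, 46, 48, 57], [36, 37, 39, 44, 46, 50, 56], [36, 37, 39, 46, 67], [36, 37, 39, 48, 50, 57], [36, 37, 39, 50, 51, 56], [36, 37, 39, 51, 61], [36, 37, 40, 42, 43, 46, 47, 56], [36, 37, 40, 42, 46, 47, 58], [36, 37, 40, 42, 47, 50, 56], [36, 37, 40, 43, 46, 46, 58], [36, 37, 40, 43, 46, 47, 57], [36, 37, 42, 43, 47, 48, 56], [36, 37, 42, 47, 48, 58], [36, 37, 42, 47, 53, 56], [36, 37, 42, 47, 64], [36, 37, 43, 46, 48, 58], [36, 37, 43, 47, 48, 57], [36, 37, 43, 48, 50, 56], [36, 37, 43, 48, 61], [36, 37, 44, 46, 47, 58], [36, 37, 44, 47, 61], [36, 37, 47, 51, 58], [36, 37, 47, 53, 57], [36, 37, 47, 67], [36, 37, 48, 50, 58],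 [36, 37, 50, 53, 56], [36, 37, 50, 64], [36, 37, 53, 61], [36, 39, 40, 42, 46, 48, 57], [36, 39, 40, 44, 46, 46, 57], [36, 39, 40, 46, 51, 57], [36, 39, 42, 44, 46, 48, 56], [36, 39, 42, 46, 48, 59], [36, 39, 42, 48, 51, 56], [36, 39, 44, 46, 51, 56], [36, 39, 46, 51, 59], [36, 39, 51, 62], [36, 40, 40, 46, 50, 57], [36, 40, 42, 46, 48, 58], [36, 40, 42, 48, 50, 56], [36, 40, 43, 44, 46, 46, 56], [36, 40, 44, 46, 46, 58], [36, 40, 46, 50, 59], [36, 40, 46, 51, 58], [36, 40, 47, 51, 57], [36, 40, 48, 50, 57], [36, 40, 50, 62], [36, 42, 48, 48, 58], [36, 42, 48, 53, 56], [36, 42, 48, 64], [36, 43, 48, 62], [36, 44, 44, 46, 47, 56], [36, 44, 46, 47, 59], [36, 44, 46, 48, 58], [36, 44, 47, 48, 57], [36, 44, 48, 50, 56], [36, 47, 51, 59], [36, 48, 50, 59], [36, 48, 53, 57], [36, 48, 67], [36, 51, 53, 56], [36, 51, 64], [36, 53, 62], [37, 38, 39, 42, 46, 47, 58], [37, 38, 39, 42, 47, 47, 57], [37, 38, 39, 42, 47, 50, 56], [37, 38, 39, 43, 46,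 46, 58], [37, 38, 39, 43, 46, 50, 56], [37, 38, 39, 46, 50, 58], [37, 38, 39, 50, 61], [37, 38, 43, 47, 61], [37, 39, 41, 42, 46, 47, 57], [37, 39, 41, 43, 46, 46, 57], [37, 39, 41, 46, 50, 57], [37, 39, 42, 46, 54, 56], [37, 39, 42, 46, 65], [37, 39, 42, 49, 50, 56], [37, 39, 42, 49, 61], [37, 39, 45, 46, 50, 56], [37, 39, 46, 68], [37, 41, 42, 43, 46, 47, 56], [37, 41, 42, 46, 47, 58], [37, 41, 42, 47, 50, 56], [37, 41, 42, 47, 61], [37, 41, 43, 46, 46, 58], [37, 41, 43, 46, 47, 57], [37, 41, 43, 46, 50, 56], [37, 41, 43, 46, 61], [37, 41, 46, 50, 58], [37, 41, 47, 50, 57], [37, 41, 50, 50, 56], [37, 42, 47, 49, 58], [37, 42, 47, 54, 56], [37, 42, 47, 65], [37, 45, 46, 47, 58], [37, 45, 47, 61], [37, 47, 54, 57], [37, 47, 68], [37, 50, 54, 56], [37, 50, 65], [37, 54, 61], [38, 39, 39, 44, 46, 46, 57], [38, 39, 39, 46, 51, 57], [38, 39, 40, 42, 46, 46, 58], [38, 39, 40, 42, 46, 50, 56], [38, 39, 40, 46, 50, 57], [38, 39, 42, 46, 48, 58],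 [38, 39, 42, 48, 50, 56], [38, 39, 43, 44, 46, 46, 56], [38, 39, 43, 46, 48, 57], [38, 39, 43, 46, 51, 56], [38, 39, 44, 46, 47, 57], [38, 39, 46, 51, 58], [38, 39, 50, 62], [38, 40, 42, 43, 46, 47, 56], [38, 40, 42, 46, 47, 58], [38, 40, 42, 47, 50, 56], [38, 40, 43, 46, 46, 58], [38, 40, 50, 61], [38, 42, 47, 48, 58], [38, 42, 47, 53, 56], [38, 42, 47, 64], [38, 43, 43, 46, 48, 56], [38, 43, 46, 47, 59], [38, 43, 46, 48, 58], [38, 43, 47, 51, 56], [38, 43, 48, 50, 56], [38, 43, 48, 61], [38, 44, 47, 47, 57], [38, 44, 47, 50, 56], [38, 47, 53, 57], [38, 47, 67], [38, 50, 53, 56], [38, 50, 64], [38, 53, 61], [39, 40, 41, 42, 46, 46, 57], [39, 41, 42, 46, 48, 57], [39, 41, 46, 51, 57], [39, 42, 46, 55, 56], [39, 42, 46, 66], [39, 42, 48, 49, 57], [39, 42, 49, 51, 56], [39, 45, 46, 51, 56], [39, 46, 69], [39, 48, 52, 57], [39, 51, 52, 56], [39, 51, 63], [39, 52, 62], [40, 41, 42, 43, 46, 46, 56], [40, 41, 42, 46, 46, 58], [40, 41, 42, 46,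 50, 56], [40, 41, 43, 46, 46, 57], [40, 41, 46, 50, 57], [40, 42, 46, 49, 58], [40, 42, 47, 49, 57], [40, 42, 49, 50, 56], [40, 45, 46, 46, 58], [40, 45, 46, 47, 57], [40, 46, 50, 60], [40, 49, 50, 57], [40, 50, 52, 56], [40, 50, 63], [40, 52, 61], [41, 42, 44, 46, 47, 56], [41, 42, 46, 47, 59], [41, 42, 46, 48, 58], [41, 42, 47, 51, 56], [41, 42, 48, 50, 56], [41, 43, 44, 46, 46, 56], [41, 43, 46, 46, 59], [41, 43, 46, 51, 56], [41, 44, 46, 46, 58], [41, 44, 46, 50, 56], [41, 50, 62], [41, 51, 61], [42, 44, 47, 49, 56], [42, 47, 49, 59], [42, 47, 55, 56], [42, 47, 66], [42, 48, 54, 56], [42, 48, 65], [42, 49, 53, 56], [42, 49, 64], [43, 45, 46, 48, 56], [43, 46, 48, 60], [43, 48, 49, 57], [43, 48, 52, 56], [43, 48, 63], [43, 49, 62], [44, 45, 46, 47, 56], [44, 49, 61], [45, 46, 47, 59], [45, 47, 51, 56], [45, 48, 50, 56], [46, 70], [47, 51, 60], [47, 55, 57], [47, 69], [48, 50, 60], [48, 52, 58], [48, 54, 57], [48, 68], [49, 51, 58], [49,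 53, 57], [49, 67], [50, 55, 56], [50, 66], [51, 54, 56], [51, 65], [52, 53, 56], [52, 64], [53, 63], [54, 62], [55, 61]])]

theorem Sq_eq : NFW (idW Lr ++ idW Lr) = Sq := by decide +kernel

/-- The table. -/
def Ft : List (ℕ × Wd) := [(36, F36), (37, F37), (39, F39), (46, F46), (38, F38), (40, F40), (47, F47), (41, F41), (44, F44), (48, F48), (45, F45), (49, F49), (51, F51), (60, F60), (52, F52), (53, F53), (63, F63), (54, F54), (65, F65), (55, F55), (66, F66), (69, F69), (70, F70), (71, F71)]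

end Cfsg.Agent.Lib.Twisted.E6Inv
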