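import Cfsg.Agent.Lib.Twisted.E6Inv.Data

/-!
# Involutions of `²E₆(q)`: the tree
-/

set_option autoImplicit false
set_option maxRecDepth 1000000

namespace Cfsg.Agent.Lib.Twisted.E6Inv

open Nd in
/-- The tree of conjugations. -/
def tree0 : Nd := split 36 (split 37 (split 39 (split 46 (split 38 (split 40 (split 47 (split 41 (split 44 (split 48 (split 45 (split 49 (split 51 (split 60 (split 52 (split 53 (split 63 (split 54 (split 65 (split 55 (split 66 (split 69 (split 70 (split 71 (triv) (weyl 0 (weyl 1 (weyl 3 (weyl 1 (weyl 0 (weyl 2 (weyl 3 (leaf 0))))))))) (cL 70 46 71 (weyl 1 (weyl 3 (weyl 1 (weyl 0 (weyl 2 (weyl 3 (leaf 0))))))))) (cL 69 39 70 (cL 69 47 71 (weyl 3 (weyl 1 (weyl 0 (weyl 2 (weyl 3 (leaf 0))))))))) (cT 68 37 69 (cT 68 40 70 (cT 68 48 71 (weyl 2 (weyl 3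 (weyl 1 (weyl 0 (weyl 3 (weyl 1 (weyl 3 (leaf 1)))))))))))) (cS 67 36 68 (cT 67 38 69 (cT 67 41 70 (cT 67 49 71 (weyl 3 (weyl 1 (weyl 0 (weyl 3 (weyl 1 (weyl 3 (leaf 1)))))))))))) (cS 65 37 66 (cL 65 44 70 (cL 65 51 71 (split 55 (split 69 (weyl 1 (weyl 0 (weyl 2 (weyl 3 (leaf 0))))) (weyl 2 (weyl 3 (weyl 1 (weyl 0 (weyl 3 (weyl 2 (cN 39 37 44 (weyl 3 (split 40 (weyl 3 (leaf 0)) (cT 43 37 44 (weyl 1 (weyl 2 (weyl 3 (leaf 1))))))))))))))) (cT 67 38 69 (weyl 1 (weyl 3 (weyl 1 (weyl 0 (weyl 2 (weyl 3 (weyl 1 (weyl 0 (weyl 3 (leaf 2)))))))))))))))) (cT 64 36 65 (cS 54 37 55 (cS 64 38 66 (cT 64 45 70 (cT 64 52 71 (split 69 (weyl 1 (weyl 0 (weyl 3 (weyl 1 (weyl 3 (leaf 1)))))) (weyl 1 (weyl 3 (weyl 1 (weyl 0 (weyl 2 (weyl 3 (weyl 1 (weyl 0 (weyl 2 (weyl 3 (leaf 2))))))))))))))))))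 (cL 63 39 65 (cS 63 40 66 (cL 63 44 69 (cL 63 53 71 (split 54 (split 55 (split 70 (weyl 0 (weyl 2 (weyl 3 (leaf 0)))) (weyl 1 (weyl 2 (weyl 3 (weyl 1 (weyl 0 (weyl 3 (weyl 2 (cN 39 37 44 (weyl 3 (split 40 (weyl 3 (leaf 0)) (cT 43 37 44 (weyl 1 (weyl 2 (weyl 3 (leaf 1)))))))))))))))) (cT 67 41 70 (weyl 3 (weyl 1 (weyl 0 (weyl 2 (weyl 3 (weyl 1 (weyl 0 (weyl 3 (leaf 2))))))))))) (cS 54 37 55 (cT 64 45 70 (weyl 1 (weyl 0 (weyl 2 (weyl 3 (weyl 1 (weyl 0 (weyl 3 (leaf 2)))))))))))))))) (cS 53 36 54 (cS 53 38 55 (cL 53 60 70 (cL 53 63 71 (sqz 71 63 (split 65 (split 66 (split 69 (weyl 1 (weyl 0 (weyl 3 (leaf 0)))) (weyl 3 (weyl 1 (weyl 0 (weyl 3 (weyl 2 (cN 39 37 44 (weyl 3 (split 40 (weyl 3 (leaf 0)) (cT 43 37 44 (weyl 1 (weyl 2 (weyl 3 (leaf 1)))))))))))))) (cT 68 37 69 (weyl 1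 (weyl 2 (weyl 3 (weyl 1 (weyl 0 (weyl 2 (weyl 3 (weyl 1 (weyl 0 (weyl 3 (leaf 2))))))))))))) (cS 65 37 66 (split 69 (weyl 1 (weyl 0 (weyl 3 (weyl 2 (cN 39 37 44 (weyl 3 (split 40 (weyl 3 (leaf 0)) (cT 43 37 44 (weyl 1 (weyl 2 (weyl 3 (leaf 1)))))))))))) (weyl 1 (weyl 3 (weyl 1 (weyl 2 (weyl 3 (weyl 1 (weyl 0 (cN 39 37 44 (weyl 3 (split 40 (weyl 3 (weyl 2 (cN 39 37 44 (weyl 3 (split 40 (weyl 3 (leaf 0)) (cT 43 37 44 (weyl 1 (weyl 2 (weyl 3 (leaf 1)))))))))) (cT 43 37 44 (weyl 1 (weyl 2 (weyl 3 (leaf 2)))))))))))))))))))))))) (cT 62 36 63 (cS 52 40 55 (cS 62 41 66 (cT 62 45 69 (cT 62 54 71 (cF 52 39 54 71 (cT 62 54 71 (split 53 (split 65 (split 70 (weyl 0 (weyl 3 (weyl 1 (weyl 3 (leaf 1))))) (weyl 3 (weyl 1 (weyl 0 (weyl 2 (weyl 3 (weyl 1 (weyl 0 (weyl 2 (weyl 3 (leaf 2)))))))))))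 (cL 65 44 70 (weyl 0 (weyl 2 (weyl 3 (weyl 1 (weyl 0 (weyl 3 (leaf 2))))))))) (cL 53 60 70 (split 65 (weyl 0 (weyl 3 (weyl 1 (weyl 0 (weyl 3 (leaf 2)))))) (weyl 0 (weyl 1 (weyl 3 (weyl 1 (weyl 2 (cK 46 37 40 53 44 (cF 37 47 48 51 (cT 42 48 51 (weyl 2 (weyl 3 (weyl 1 (weyl 0 (leaf 2)))))))))))))))))))))))) (cL 60 46 63 (cL 60 47 65 (cS 60 48 66 (cL 60 51 69 (cL 60 53 70 (sqz 70 53 (split 52 (split 54 (split 55 (split 71 (weyl 2 (weyl 3 (leaf 0))) (weyl 0 (weyl 1 (weyl 2 (weyl 3 (weyl 1 (weyl 0 (weyl 3 (weyl 2 (cN 39 37 44 (weyl 3 (split 40 (weyl 3 (leaf 0)) (cT 43 37 44 (weyl 1 (weyl 2 (weyl 3 (leaf 1))))))))))))))))) (cT 67 49 71 (weyl 0 (weyl 3 (weyl 1 (weyl 0 (weyl 2 (weyl 3 (weyl 1 (weyl 0 (weyl 3 (leaf 2)))))))))))) (cS 54 37 55 (cT 64 52 71 (weyl 0 (weyl 1 (weyl 0 (weyl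 2 (weyl 3 (weyl 1 (weyl 0 (weyl 3 (leaf 2)))))))))))) (cS 52 40 55 (cT 62 54 71 (cF 52 39 54 71 (cT 62 54 71 (weyl 0 (weyl 1 (weyl 2 (weyl 3 (weyl 1 (weyl 0 (weyl 3 (leaf 2)))))))))))))))))))) (cS 51 36 52 (cL 51 39 53 (cS 51 41 55 (cL 51 60 69 (cL 51 65 71 (sqz 69 60 (sqz 71 65 (split 63 (split 54 (split 66 (split 70 (weyl 0 (weyl 3 (leaf 0))) (weyl 1 (weyl 3 (weyl 1 (weyl 0 (weyl 3 (weyl 2 (cN 39 37 44 (weyl 3 (split 40 (weyl 3 (leaf 0)) (cT 43 37 44 (weyl 1 (weyl 2 (weyl 3 (leaf 1))))))))))))))) (cT 68 40 70 (weyl 2 (weyl 3 (weyl 1 (weyl 0 (weyl 2 (weyl 3 (weyl 1 (weyl 0 (weyl 3 (leaf 2)))))))))))) (cS 64 38 66 (cT 64 45 70 (weyl 1 (weyl 0 (weyl 3 (weyl 1 (weyl 0 (weyl 3 (leaf 2)))))))))) (cS 63 40 66 (split 54 (split 70 (weyl 0 (weyl 3 (weyl 2 (cN 39 37 44 (weyl 3 (split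 40 (weyl 3 (leaf 0)) (cT 43 37 44 (weyl 1 (weyl 2 (weyl 3 (leaf 1))))))))))) (weyl 3 (weyl 1 (weyl 2 (weyl 3 (weyl 1 (weyl 0 (cN 39 37 44 (weyl 3 (split 40 (weyl 3 (weyl 2 (cN 39 37 44 (weyl 3 (split 40 (weyl 3 (leaf 0)) (cT 43 37 44 (weyl 1 (weyl 2 (weyl 3 (leaf 1)))))))))) (cT 43 37 44 (weyl 1 (weyl 2 (weyl 3 (leaf 2))))))))))))))) (cT 64 45 70 (weyl 0 (weyl 1 (weyl 0 (weyl 3 (weyl 1 (weyl 2 (cK 46 37 40 53 44 (cF 37 47 48 51 (cT 42 48 51 (weyl 2 (weyl 3 (weyl 1 (weyl 0 (leaf 2)))))))))))))))))))))))))) (cS 61 37 62 (cT 61 38 63 (cS 61 40 64 (cT 61 41 65 (cS 61 45 68 (cT 61 55 71 (cF 49 44 55 71 (cT 61 55 71 (split 51 (split 60 (split 53 (split 69 (split 70 (weyl 0 (weyl 1 (weyl 3 (leaf 1)))) (weyl 1 (weyl 0 (weyl 2 (weyl 3 (weyl 1 (weyl 0 (weyl 2 (weyl 3 (leaf 2))))))))))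 (cL 69 39 70 (weyl 0 (weyl 2 (weyl 3 (weyl 1 (weyl 0 (weyl 2 (weyl 3 (leaf 2)))))))))) (cL 53 60 70 (split 69 (weyl 0 (weyl 1 (weyl 0 (weyl 3 (leaf 2))))) (weyl 0 (weyl 1 (weyl 3 (weyl 1 (weyl 3 (weyl 2 (cK 46 37 40 53 44 (cF 37 47 48 51 (cT 42 48 51 (weyl 2 (weyl 3 (weyl 1 (weyl 0 (leaf 2))))))))))))))))) (cL 60 51 69 (cL 60 53 70 (sqz 70 53 (weyl 0 (weyl 2 (weyl 3 (weyl 1 (weyl 2 (weyl 3 (weyl 1 (weyl 0 (leaf 2))))))))))))) (cL 51 39 53 (cL 51 60 69 (sqz 69 60 (split 70 (weyl 0 (weyl 1 (weyl 3 (leaf 2)))) (weyl 0 (weyl 1 (weyl 0 (weyl 3 (weyl 1 (weyl 3 (weyl 2 (cK 46 37 40 53 44 (cF 37 47 48 51 (cT 42 48 51 (weyl 2 (weyl 3 (weyl 1 (weyl 0 (leaf 2))))))))))))))))))))))))))))) (cT 59 36 60 (cS 45 48 55 (cS 59 49 66 (cT 59 52 69 (cT 59 54 70 (sqz 66 49 (cF 45 46 52 69 (cT 59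 52 69 (cF 45 47 54 70 (cT 59 54 70 (split 51 (split 53 (split 63 (split 65 (split 71 (weyl 3 (weyl 1 (weyl 3 (leaf 1)))) (weyl 0 (weyl 3 (weyl 1 (weyl 0 (weyl 2 (weyl 3 (weyl 1 (weyl 0 (weyl 2 (weyl 3 (leaf 2)))))))))))) (cL 65 51 71 (weyl 2 (weyl 3 (weyl 1 (weyl 0 (weyl 3 (leaf 2)))))))) (cL 63 39 65 (cL 63 53 71 (weyl 1 (weyl 2 (weyl 3 (weyl 1 (weyl 0 (weyl 3 (leaf 2)))))))))) (cL 53 63 71 (sqz 71 63 (split 65 (weyl 3 (weyl 1 (weyl 0 (weyl 3 (leaf 2))))) (weyl 1 (weyl 3 (weyl 1 (weyl 2 (cK 46 37 40 53 44 (cF 37 47 48 51 (cT 42 48 51 (weyl 2 (weyl 3 (weyl 1 (weyl 0 (leaf 2)))))))))))))))) (cL 51 39 53 (cL 51 65 71 (sqz 71 65 (split 63 (weyl 1 (weyl 3 (weyl 1 (weyl 0 (weyl 3 (leaf 2)))))) (weyl 3 (weyl 1 (weyl 2 (cK 46 37 40 53 44 (cF 37 47 48 51 (cT 42 48 51 (weyl 2 (weyl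 3 (weyl 1 (weyl 0 (leaf 2))))))))))))))))))))))))))) (cS 48 36 49 (cT 50 37 51 (cS 50 38 52 (cT 50 40 53 (cS 50 41 54 (cS 48 45 55 (cT 50 66 71 (sqz 55 45 (sqz 66 60 (cF 48 60 66 71 (cT 50 66 71 (split 63 (split 65 (split 69 (split 70 (weyl 0 (weyl 1 (weyl 2 (weyl 3 (leaf 1))))) (weyl 1 (weyl 0 (weyl 3 (weyl 1 (weyl 0 (weyl 2 (weyl 3 (leaf 2))))))))) (cL 69 39 70 (weyl 0 (weyl 3 (weyl 1 (weyl 0 (weyl 2 (weyl 3 (leaf 2))))))))) (cL 65 44 70 (split 69 (weyl 0 (weyl 1 (weyl 0 (weyl 2 (weyl 3 (leaf 2)))))) (weyl 0 (weyl 1 (weyl 2 (weyl 3 (weyl 1 (weyl 3 (weyl 2 (cK 46 37 40 53 44 (cF 37 47 48 51 (cT 42 48 51 (weyl 2 (weyl 3 (weyl 1 (weyl 0 (leaf 2)))))))))))))))))) (cL 63 39 65 (cL 63 44 69 (split 70 (weyl 0 (weyl 1 (weyl 2 (weyl 3 (leaf 2))))) (weyl 0 (weyl 1 (weyl 0 (weyl 2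 (weyl 3 (weyl 1 (weyl 3 (weyl 2 (cK 46 37 40 53 44 (cF 37 47 48 51 (cT 42 48 51 (weyl 2 (weyl 3 (weyl 1 (weyl 0 (leaf 2)))))))))))))))))))))))))))))))) (cS 44 36 45 (cL 44 46 51 (cL 44 47 53 (cS 44 49 55 (cL 44 63 69 (cL 44 65 70 (sqz 55 49 (sqz 69 63 (sqz 70 65 (split 48 (split 60 (split 52 (split 54 (split 66 (split 71 (weyl 3 (leaf 0)) (weyl 0 (weyl 1 (weyl 3 (weyl 1 (weyl 0 (weyl 3 (weyl 2 (cN 39 37 44 (weyl 3 (split 40 (weyl 3 (leaf 0)) (cT 43 37 44 (weyl 1 (weyl 2 (weyl 3 (leaf 1)))))))))))))))) (cT 68 48 71 (weyl 0 (weyl 2 (weyl 3 (weyl 1 (weyl 0 (weyl 2 (weyl 3 (weyl 1 (weyl 0 (weyl 3 (leaf 2))))))))))))) (cS 64 38 66 (cT 64 52 71 (weyl 0 (weyl 1 (weyl 0 (weyl 3 (weyl 1 (weyl 0 (weyl 3 (leaf 2))))))))))) (cS 62 41 66 (cT 62 54 71 (cF 52 39 54 71 (cT 62 54 71 (weyl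 0 (weyl 1 (weyl 3 (weyl 1 (weyl 0 (weyl 3 (leaf 2)))))))))))) (cS 60 48 66 (split 52 (split 54 (split 71 (weyl 3 (weyl 2 (cN 39 37 44 (weyl 3 (split 40 (weyl 3 (leaf 0)) (cT 43 37 44 (weyl 1 (weyl 2 (weyl 3 (leaf 1)))))))))) (weyl 0 (weyl 3 (weyl 1 (weyl 2 (weyl 3 (weyl 1 (weyl 0 (cN 39 37 44 (weyl 3 (split 40 (weyl 3 (weyl 2 (cN 39 37 44 (weyl 3 (split 40 (weyl 3 (leaf 0)) (cT 43 37 44 (weyl 1 (weyl 2 (weyl 3 (leaf 1)))))))))) (cT 43 37 44 (weyl 1 (weyl 2 (weyl 3 (leaf 2)))))))))))))))) (cT 64 52 71 (weyl 1 (weyl 0 (weyl 3 (weyl 1 (weyl 2 (cK 46 37 40 53 44 (cF 37 47 48 51 (cT 42 48 51 (weyl 2 (weyl 3 (weyl 1 (weyl 0 (leaf 2))))))))))))))) (cT 62 54 71 (cF 52 39 54 71 (cT 62 54 71 (weyl 0 (weyl 3 (weyl 1 (weyl 2 (cK 46 37 40 53 44 (cF 37 47 48 51 (cT 42 48 51 (weyl 2 (weyl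 3 (weyl 1 (weyl 0 (leaf 2)))))))))))))))))) (cS 50 38 52 (cS 50 41 54 (cT 50 66 71 (sqz 66 60 (cF 48 60 66 71 (cT 50 66 71 (weyl 0 (weyl 3 (weyl 1 (weyl 2 (weyl 3 (weyl 1 (weyl 0 (leaf 2))))))))))))))))))))))))) (cS 58 37 59 (cT 58 38 60 (cS 58 48 64 (cT 58 49 65 (cS 58 52 68 (cT 58 55 70 (sqz 64 48 (cF 41 46 49 65 (cT 58 49 65 (cT 58 55 70 (sqz 55 51 (sqz 68 52 (cF 41 51 55 70 (cT 58 55 70 (split 44 (split 53 (split 63 (split 69 (split 71 (weyl 1 (weyl 3 (leaf 1))) (weyl 0 (weyl 1 (weyl 0 (weyl 2 (weyl 3 (weyl 1 (weyl 0 (weyl 2 (weyl 3 (leaf 2))))))))))) (cL 69 47 71 (weyl 2 (weyl 3 (weyl 1 (weyl 0 (weyl 2 (weyl 3 (leaf 2))))))))) (cL 63 44 69 (cL 63 53 71 (weyl 2 (weyl 3 (weyl 1 (weyl 2 (weyl 3 (weyl 1 (weyl 0 (leaf 2))))))))))) (cL 53 63 71 (sqz 71 63 (split 69 (weyl 1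 (weyl 0 (weyl 3 (leaf 2)))) (weyl 1 (weyl 3 (weyl 1 (weyl 3 (weyl 2 (cK 46 37 40 53 44 (cF 37 47 48 51 (cT 42 48 51 (weyl 2 (weyl 3 (weyl 1 (weyl 0 (leaf 2))))))))))))))))) (cL 44 47 53 (cL 44 63 69 (sqz 69 63 (split 71 (weyl 1 (weyl 3 (leaf 2))) (weyl 1 (weyl 0 (weyl 3 (weyl 1 (weyl 3 (weyl 2 (cK 46 37 40 53 44 (cF 37 47 48 51 (cT 42 48 51 (weyl 2 (weyl 3 (weyl 1 (weyl 0 (leaf 2)))))))))))))))))))))))))))))))))) (cS 47 37 48 (cS 47 38 49 (cL 47 44 53 (cS 47 45 54 (cL 47 60 65 (cL 47 69 71 (sqz 53 44 (sqz 54 45 (sqz 65 60 (sqz 71 69 (split 41 (split 51 (split 52 (split 63 (split 55 (split 66 (split 70 (weyl 0 (leaf 0)) (weyl 1 (weyl 3 (weyl 1 (weyl 0 (weyl 2 (cN 39 37 44 (weyl 3 (split 40 (weyl 3 (leaf 0)) (cT 43 37 44 (weyl 1 (weyl 2 (weyl 3 (leaf 1)))))))))))))) (cT 68 40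 70 (weyl 1 (weyl 2 (weyl 3 (weyl 1 (weyl 0 (weyl 3 (weyl 1 (weyl 3 (leaf 2))))))))))) (cS 67 36 68 (cT 67 41 70 (weyl 1 (weyl 3 (weyl 1 (weyl 0 (weyl 3 (weyl 1 (weyl 3 (leaf 2))))))))))) (cS 63 40 66 (split 55 (split 70 (weyl 0 (weyl 2 (cN 39 37 44 (weyl 3 (split 40 (weyl 3 (leaf 0)) (cT 43 37 44 (weyl 1 (weyl 2 (weyl 3 (leaf 1)))))))))) (weyl 1 (weyl 2 (weyl 3 (weyl 1 (weyl 0 (cN 39 37 44 (weyl 3 (split 40 (weyl 3 (weyl 2 (cN 39 37 44 (weyl 3 (split 40 (weyl 3 (leaf 0)) (cT 43 37 44 (weyl 1 (weyl 2 (weyl 3 (leaf 1)))))))))) (cT 43 37 44 (weyl 1 (weyl 2 (weyl 3 (leaf 2)))))))))))))) (cT 67 41 70 (weyl 0 (weyl 3 (weyl 1 (weyl 0 (weyl 3 (weyl 1 (weyl 2 (cK 46 37 40 53 44 (cF 37 47 48 51 (cT 42 48 51 (weyl 2 (weyl 3 (weyl 1 (weyl 0 (leaf 2))))))))))))))))))) (cT 62 36 63 (cS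 52 40 55 (cS 62 41 66 (split 70 (weyl 0 (weyl 3 (weyl 1 (weyl 3 (leaf 2))))) (weyl 0 (weyl 3 (weyl 1 (weyl 0 (weyl 3 (weyl 1 (weyl 3 (weyl 2 (cK 46 37 40 53 44 (cF 37 47 48 51 (cT 42 48 51 (weyl 2 (weyl 3 (weyl 1 (weyl 0 (leaf 2))))))))))))))))))))) (cS 51 36 52 (cS 51 41 55 (split 63 (split 66 (split 70 (weyl 0 (cN 39 37 44 (weyl 3 (split 40 (weyl 3 (leaf 0)) (cT 43 37 44 (weyl 1 (weyl 2 (weyl 3 (leaf 1))))))))) (weyl 1 (weyl 3 (weyl 1 (weyl 0 (cN 39 37 44 (weyl 3 (split 40 (weyl 3 (weyl 2 (cN 39 37 44 (weyl 3 (split 40 (weyl 3 (leaf 0)) (cT 43 37 44 (weyl 1 (weyl 2 (weyl 3 (leaf 1)))))))))) (cT 43 37 44 (weyl 1 (weyl 2 (weyl 3 (leaf 2))))))))))))) (cT 68 40 70 (weyl 0 (weyl 2 (weyl 3 (weyl 1 (weyl 0 (weyl 3 (weyl 1 (weyl 2 (cK 46 37 40 53 44 (cF 37 47 48 51 (cT 42 48 51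 (weyl 2 (weyl 3 (weyl 1 (weyl 0 (leaf 2)))))))))))))))))) (cS 63 40 66 (split 70 (weyl 0 (cN 39 37 44 (weyl 3 (split 40 (weyl 3 (weyl 2 (cN 39 37 44 (weyl 3 (split 40 (weyl 3 (leaf 0)) (cT 43 37 44 (weyl 1 (weyl 2 (weyl 3 (leaf 1)))))))))) (cT 43 37 44 (weyl 1 (weyl 2 (weyl 3 (leaf 2))))))))) (weyl 0 (cN 39 37 44 (weyl 3 (split 40 (weyl 0 (weyl 3 (weyl 1 (weyl 2 (weyl 3 (weyl 1 (weyl 0 (cN 39 37 44 (weyl 3 (split 40 (weyl 3 (weyl 2 (cN 39 37 44 (weyl 3 (split 40 (weyl 3 (leaf 0)) (cT 43 37 44 (weyl 1 (weyl 2 (weyl 3 (leaf 1)))))))))) (cT 43 37 44 (weyl 1 (weyl 2 (weyl 3 (leaf 2))))))))))))))) (cT 43 37 44 (weyl 1 (weyl 0 (weyl 2 (weyl 3 (weyl 1 (weyl 3 (weyl 2 (cK 46 37 40 53 44 (cF 37 47 48 51 (cT 42 48 51 (weyl 2 (weyl 3 (weyl 1 (weyl 0 (leaf 2))))))))))))))))))))))))))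 (cS 58 52 68 (cT 58 55 70 (sqz 55 51 (sqz 68 52 (cF 41 51 55 70 (cT 58 55 70 (split 63 (weyl 1 (weyl 3 (weyl 1 (weyl 0 (leaf 2))))) (weyl 1 (weyl 2 (cK 46 37 40 53 44 (cF 37 47 48 51 (cT 42 48 51 (weyl 2 (weyl 3 (weyl 1 (weyl 0 (leaf 2))))))))))))))))))))))))))))) (cS 40 36 41 (cT 43 37 44 (cS 43 38 45 (cT 43 48 53 (cS 43 49 54 (cS 40 52 55 (cT 43 66 70 (cF 40 46 48 53 (cT 43 48 53 (cT 43 66 70 (sqz 54 49 (sqz 55 52 (sqz 66 63 (cF 40 63 66 70 (cT 43 66 70 (split 47 (split 51 (split 60 (split 65 (split 69 (split 71 (weyl 1 (weyl 2 (weyl 3 (leaf 1)))) (weyl 0 (weyl 1 (weyl 0 (weyl 3 (weyl 1 (weyl 0 (weyl 2 (weyl 3 (leaf 2)))))))))) (cL 69 47 71 (weyl 3 (weyl 1 (weyl 0 (weyl 2 (weyl 3 (leaf 2)))))))) (cL 65 51 71 (split 69 (weyl 1 (weyl 0 (weyl 2 (weyl 3 (leaf 2))))) (weyl 1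 (weyl 2 (weyl 3 (weyl 1 (weyl 3 (weyl 2 (cK 46 37 40 53 44 (cF 37 47 48 51 (cT 42 48 51 (weyl 2 (weyl 3 (weyl 1 (weyl 0 (leaf 2))))))))))))))))) (cL 60 47 65 (cL 60 51 69 (split 71 (weyl 1 (weyl 2 (weyl 3 (leaf 2)))) (weyl 1 (weyl 0 (weyl 2 (weyl 3 (weyl 1 (weyl 3 (weyl 2 (cK 46 37 40 53 44 (cF 37 47 48 51 (cT 42 48 51 (weyl 2 (weyl 3 (weyl 1 (weyl 0 (leaf 2))))))))))))))))))) (cL 51 60 69 (cL 51 65 71 (sqz 69 60 (sqz 71 65 (weyl 3 (weyl 1 (weyl 2 (weyl 3 (weyl 1 (weyl 0 (leaf 2)))))))))))) (cL 47 60 65 (cL 47 69 71 (sqz 65 60 (sqz 71 69 (split 51 (weyl 1 (weyl 2 (weyl 3 (weyl 1 (weyl 0 (leaf 2)))))) (weyl 1 (cK 46 37 40 53 44 (cF 37 47 48 51 (cT 42 48 51 (weyl 2 (weyl 3 (weyl 1 (weyl 0 (leaf 2))))))))))))))))))))))))))))))) (cS 57 40 59 (cT 57 41 60 (cS 57 48 62 (cT 57 49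 63 (cS 57 54 68 (cT 57 55 69 (sqz 59 40 (sqz 49 47 (cF 38 39 41 60 (cT 57 41 60 (cS 57 54 68 (cT 57 55 69 (sqz 62 48 (cF 38 47 49 63 (cT 57 49 63 (cT 57 55 69 (sqz 55 53 (sqz 68 54 (cF 38 53 55 69 (cT 57 55 69 (split 44 (split 51 (split 65 (split 70 (split 71 (weyl 3 (leaf 1)) (weyl 0 (weyl 1 (weyl 2 (weyl 3 (weyl 1 (weyl 0 (weyl 2 (weyl 3 (leaf 2)))))))))) (cL 70 46 71 (weyl 1 (weyl 2 (weyl 3 (weyl 1 (weyl 0 (weyl 2 (weyl 3 (leaf 2)))))))))) (cL 65 44 70 (cL 65 51 71 (weyl 1 (weyl 2 (weyl 3 (weyl 1 (weyl 2 (weyl 3 (weyl 1 (weyl 0 (leaf 2)))))))))))) (cL 51 65 71 (sqz 71 65 (split 70 (weyl 0 (weyl 3 (leaf 2))) (weyl 3 (weyl 1 (weyl 3 (weyl 2 (cK 46 37 40 53 44 (cF 37 47 48 51 (cT 42 48 51 (weyl 2 (weyl 3 (weyl 1 (weyl 0 (leaf 2)))))))))))))))) (cL 44 46 51 (cL 44 65 70 (sqz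 70 65 (split 71 (weyl 3 (leaf 2)) (weyl 0 (weyl 3 (weyl 1 (weyl 3 (weyl 2 (cK 46 37 40 53 44 (cF 37 47 48 51 (cT 42 48 51 (weyl 2 (weyl 3 (weyl 1 (weyl 0 (leaf 2))))))))))))))))))))))))))))))))))))))) (cL 46 39 47 (cS 46 40 48 (cS 46 41 49 (cL 46 44 51 (cS 46 45 52 (cL 46 60 63 (cL 46 70 71 (sqz 48 40 (sqz 49 41 (sqz 51 44 (sqz 52 45 (sqz 63 60 (sqz 71 70 (split 38 (split 53 (split 54 (split 65 (split 55 (split 66 (split 69 (weyl 1 (weyl 0 (leaf 0))) (weyl 3 (weyl 1 (weyl 0 (weyl 2 (cN 39 37 44 (weyl 3 (split 40 (weyl 3 (leaf 0)) (cT 43 37 44 (weyl 1 (weyl 2 (weyl 3 (leaf 1))))))))))))) (cT 68 37 69 (weyl 2 (weyl 3 (weyl 1 (weyl 0 (weyl 3 (weyl 1 (weyl 3 (leaf 2)))))))))) (cS 67 36 68 (cT 67 38 69 (weyl 3 (weyl 1 (weyl 0 (weyl 3 (weyl 1 (weyl 3 (leaf 2)))))))))) (cS 65 37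 66 (split 55 (split 69 (weyl 1 (weyl 0 (weyl 2 (cN 39 37 44 (weyl 3 (split 40 (weyl 3 (leaf 0)) (cT 43 37 44 (weyl 1 (weyl 2 (weyl 3 (leaf 1))))))))))) (weyl 2 (weyl 3 (weyl 1 (weyl 0 (cN 39 37 44 (weyl 3 (split 40 (weyl 3 (weyl 2 (cN 39 37 44 (weyl 3 (split 40 (weyl 3 (leaf 0)) (cT 43 37 44 (weyl 1 (weyl 2 (weyl 3 (leaf 1)))))))))) (cT 43 37 44 (weyl 1 (weyl 2 (weyl 3 (leaf 2))))))))))))) (cT 67 38 69 (weyl 1 (weyl 0 (weyl 3 (weyl 1 (weyl 0 (weyl 3 (weyl 1 (weyl 2 (cK 46 37 40 53 44 (cF 37 47 48 51 (cT 42 48 51 (weyl 2 (weyl 3 (weyl 1 (weyl 0 (leaf 2)))))))))))))))))))) (cT 64 36 65 (cS 54 37 55 (cS 64 38 66 (split 69 (weyl 1 (weyl 0 (weyl 3 (weyl 1 (weyl 3 (leaf 2)))))) (weyl 1 (weyl 0 (weyl 3 (weyl 1 (weyl 0 (weyl 3 (weyl 1 (weyl 3 (weyl 2 (cK 46 37 40 53 44 (cF 37 47 48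 51 (cT 42 48 51 (weyl 2 (weyl 3 (weyl 1 (weyl 0 (leaf 2)))))))))))))))))))))) (cS 53 36 54 (cS 53 38 55 (split 65 (split 66 (split 69 (weyl 1 (weyl 0 (cN 39 37 44 (weyl 3 (split 40 (weyl 3 (leaf 0)) (cT 43 37 44 (weyl 1 (weyl 2 (weyl 3 (leaf 1)))))))))) (weyl 3 (weyl 1 (weyl 0 (cN 39 37 44 (weyl 3 (split 40 (weyl 3 (weyl 2 (cN 39 37 44 (weyl 3 (split 40 (weyl 3 (leaf 0)) (cT 43 37 44 (weyl 1 (weyl 2 (weyl 3 (leaf 1)))))))))) (cT 43 37 44 (weyl 1 (weyl 2 (weyl 3 (leaf 2)))))))))))) (cT 68 37 69 (weyl 1 (weyl 0 (weyl 2 (weyl 3 (weyl 1 (weyl 0 (weyl 3 (weyl 1 (weyl 2 (cK 46 37 40 53 44 (cF 37 47 48 51 (cT 42 48 51 (weyl 2 (weyl 3 (weyl 1 (weyl 0 (leaf 2))))))))))))))))))) (cS 65 37 66 (split 69 (weyl 1 (weyl 0 (cN 39 37 44 (weyl 3 (split 40 (weyl 3 (weyl 2 (cN 39 37 44 (weyl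 3 (split 40 (weyl 3 (leaf 0)) (cT 43 37 44 (weyl 1 (weyl 2 (weyl 3 (leaf 1)))))))))) (cT 43 37 44 (weyl 1 (weyl 2 (weyl 3 (leaf 2)))))))))) (weyl 1 (weyl 0 (cN 39 37 44 (weyl 3 (split 40 (weyl 0 (weyl 3 (weyl 1 (weyl 2 (weyl 3 (weyl 1 (weyl 0 (cN 39 37 44 (weyl 3 (split 40 (weyl 3 (weyl 2 (cN 39 37 44 (weyl 3 (split 40 (weyl 3 (leaf 0)) (cT 43 37 44 (weyl 1 (weyl 2 (weyl 3 (leaf 1)))))))))) (cT 43 37 44 (weyl 1 (weyl 2 (weyl 3 (leaf 2))))))))))))))) (cT 43 37 44 (weyl 1 (weyl 0 (weyl 2 (weyl 3 (weyl 1 (weyl 3 (weyl 2 (cK 46 37 40 53 44 (cF 37 47 48 51 (cT 42 48 51 (weyl 2 (weyl 3 (weyl 1 (weyl 0 (leaf 2))))))))))))))))))))))))))) (cS 57 54 68 (cT 57 55 69 (sqz 55 53 (sqz 68 54 (cF 38 53 55 69 (cT 57 55 69 (split 65 (weyl 3 (weyl 1 (weyl 0 (leaf 2)))) (weyl 2 (cK 46 37 40 53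 44 (cF 37 47 48 51 (cT 42 48 51 (weyl 2 (weyl 3 (weyl 1 (weyl 0 (leaf 2))))))))))))))))))))))))))))))) (cS 39 37 40 (cL 39 46 47 (cS 39 38 41 (cL 39 51 53 (cS 39 52 54 (cL 39 63 65 (cL 39 69 70 (sqz 47 46 (sqz 41 38 (sqz 53 51 (sqz 54 52 (sqz 65 63 (sqz 70 69 (split 44 (split 48 (split 45 (split 49 (split 60 (split 55 (split 66 (split 71 (leaf 0) (weyl 0 (weyl 1 (weyl 3 (weyl 1 (weyl 0 (weyl 2 (cN 39 37 44 (weyl 3 (split 40 (weyl 3 (leaf 0)) (cT 43 37 44 (weyl 1 (weyl 2 (weyl 3 (leaf 1))))))))))))))) (cT 68 48 71 (weyl 0 (weyl 1 (weyl 2 (weyl 3 (weyl 1 (weyl 0 (weyl 3 (weyl 1 (weyl 3 (leaf 2)))))))))))) (cS 67 36 68 (cT 67 49 71 (weyl 0 (weyl 1 (weyl 3 (weyl 1 (weyl 0 (weyl 3 (weyl 1 (weyl 3 (leaf 2)))))))))))) (cS 60 48 66 (split 55 (split 71 (weyl 2 (cN 39 37 44 (weyl 3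 (split 40 (weyl 3 (leaf 0)) (cT 43 37 44 (weyl 1 (weyl 2 (weyl 3 (leaf 1))))))))) (weyl 0 (weyl 1 (weyl 2 (weyl 3 (weyl 1 (weyl 0 (cN 39 37 44 (weyl 3 (split 40 (weyl 3 (weyl 2 (cN 39 37 44 (weyl 3 (split 40 (weyl 3 (leaf 0)) (cT 43 37 44 (weyl 1 (weyl 2 (weyl 3 (leaf 1)))))))))) (cT 43 37 44 (weyl 1 (weyl 2 (weyl 3 (leaf 2))))))))))))))) (cT 67 49 71 (weyl 3 (weyl 1 (weyl 0 (weyl 3 (weyl 1 (weyl 2 (cK 46 37 40 53 44 (cF 37 47 48 51 (cT 42 48 51 (weyl 2 (weyl 3 (weyl 1 (weyl 0 (leaf 2)))))))))))))))))) (cS 61 45 68 (cT 61 55 71 (cF 49 44 55 71 (cT 61 55 71 (split 60 (weyl 0 (weyl 1 (weyl 3 (weyl 1 (weyl 0 (leaf 2)))))) (weyl 0 (weyl 1 (weyl 2 (cK 46 37 40 53 44 (cF 37 47 48 51 (cT 42 48 51 (weyl 2 (weyl 3 (weyl 1 (weyl 0 (leaf 2))))))))))))))))) (cT 59 36 60 (cS 45 48 55 (cS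 59 49 66 (sqz 66 49 (split 71 (weyl 3 (weyl 1 (weyl 3 (leaf 2)))) (weyl 3 (weyl 1 (weyl 0 (weyl 3 (weyl 1 (weyl 3 (weyl 2 (cK 46 37 40 53 44 (cF 37 47 48 51 (cT 42 48 51 (weyl 2 (weyl 3 (weyl 1 (weyl 0 (leaf 2))))))))))))))))))))) (cS 48 36 49 (cS 48 45 55 (cT 50 66 71 (sqz 55 45 (sqz 66 60 (cF 48 60 66 71 (cT 50 66 71 (weyl 0 (weyl 1 (weyl 2 (weyl 3 (weyl 1 (weyl 0 (leaf 2))))))))))))))) (cS 44 36 45 (cS 44 49 55 (sqz 55 49 (split 48 (split 60 (split 66 (split 71 (cN 39 37 44 (weyl 3 (split 40 (weyl 3 (leaf 0)) (cT 43 37 44 (weyl 1 (weyl 2 (weyl 3 (leaf 1)))))))) (weyl 0 (weyl 1 (weyl 3 (weyl 1 (weyl 0 (cN 39 37 44 (weyl 3 (split 40 (weyl 3 (weyl 2 (cN 39 37 44 (weyl 3 (split 40 (weyl 3 (leaf 0)) (cT 43 37 44 (weyl 1 (weyl 2 (weyl 3 (leaf 1)))))))))) (cT 43 37 44 (weyl 1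 (weyl 2 (weyl 3 (leaf 2)))))))))))))) (cT 68 48 71 (weyl 2 (weyl 3 (weyl 1 (weyl 0 (weyl 3 (weyl 1 (weyl 2 (cK 46 37 40 53 44 (cF 37 47 48 51 (cT 42 48 51 (weyl 2 (weyl 3 (weyl 1 (weyl 0 (leaf 2))))))))))))))))) (cS 60 48 66 (split 71 (cN 39 37 44 (weyl 3 (split 40 (weyl 3 (weyl 2 (cN 39 37 44 (weyl 3 (split 40 (weyl 3 (leaf 0)) (cT 43 37 44 (weyl 1 (weyl 2 (weyl 3 (leaf 1)))))))))) (cT 43 37 44 (weyl 1 (weyl 2 (weyl 3 (leaf 2)))))))) (cN 39 37 44 (weyl 3 (split 40 (weyl 0 (weyl 3 (weyl 1 (weyl 2 (weyl 3 (weyl 1 (weyl 0 (cN 39 37 44 (weyl 3 (split 40 (weyl 3 (weyl 2 (cN 39 37 44 (weyl 3 (split 40 (weyl 3 (leaf 0)) (cT 43 37 44 (weyl 1 (weyl 2 (weyl 3 (leaf 1)))))))))) (cT 43 37 44 (weyl 1 (weyl 2 (weyl 3 (leaf 2))))))))))))))) (cT 43 37 44 (weyl 1 (weyl 0 (weyl 2 (weyl 3 (weyl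 1 (weyl 3 (weyl 2 (cK 46 37 40 53 44 (cF 37 47 48 51 (cT 42 48 51 (weyl 2 (weyl 3 (weyl 1 (weyl 0 (leaf 2)))))))))))))))))))))) (cT 50 66 71 (sqz 66 60 (cF 48 60 66 71 (cT 50 66 71 (weyl 0 (weyl 1 (cK 46 37 40 53 44 (cF 37 47 48 51 (cT 42 48 51 (weyl 2 (weyl 3 (weyl 1 (weyl 0 (leaf 2))))))))))))))))))))))))))))))))) (cS 37 36 38 (cT 42 40 44 (cS 42 41 45 (cT 42 48 51 (cS 42 49 52 (cS 37 54 55 (cT 42 66 69 (sqz 40 39 (cF 37 39 40 44 (cT 42 40 44 (cT 42 48 51 (cS 37 54 55 (sqz 48 47 (sqz 45 41 (cF 37 47 48 51 (cT 42 48 51 (sqz 52 49 (sqz 55 54 (sqz 66 65 (cF 37 65 66 69 (cT 42 66 69 (split 46 (split 60 (split 53 (split 63 (split 70 (split 71 (weyl 2 (weyl 3 (leaf 1))) (weyl 0 (weyl 1 (weyl 3 (weyl 1 (weyl 0 (weyl 2 (weyl 3 (leaf 2))))))))) (cL 70 46 71 (weyl 1 (weyl 3 (weyl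 1 (weyl 0 (weyl 2 (weyl 3 (leaf 2))))))))) (cL 63 53 71 (split 70 (weyl 0 (weyl 2 (weyl 3 (leaf 2)))) (weyl 2 (weyl 3 (weyl 1 (weyl 3 (weyl 2 (cK 46 37 40 53 44 (cF 37 47 48 51 (cT 42 48 51 (weyl 2 (weyl 3 (weyl 1 (weyl 0 (leaf 2)))))))))))))))) (cL 53 60 70 (cL 53 63 71 (sqz 71 63 (weyl 1 (weyl 3 (weyl 1 (weyl 2 (weyl 3 (weyl 1 (weyl 0 (leaf 2)))))))))))) (cL 60 46 63 (cL 60 53 70 (sqz 70 53 (split 71 (weyl 2 (weyl 3 (leaf 2))) (weyl 0 (weyl 2 (weyl 3 (weyl 1 (weyl 3 (weyl 2 (cK 46 37 40 53 44 (cF 37 47 48 51 (cT 42 48 51 (weyl 2 (weyl 3 (weyl 1 (weyl 0 (leaf 2))))))))))))))))))) (cL 46 60 63 (cL 46 70 71 (sqz 63 60 (sqz 71 70 (split 53 (weyl 2 (weyl 3 (weyl 1 (weyl 0 (leaf 2))))) (cK 46 37 40 53 44 (cF 37 47 48 51 (cT 42 48 51 (weyl 2 (weyl 3 (weyl 1 (weyl 0 (leaf 2))))))))))))))))))))))))))))))))))))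 (cS 36 37 38 (cS 36 40 41 (cS 36 48 49 (cT 56 45 60 (cT 56 52 63 (cT 56 54 65 (cS 56 55 66 (sqz 38 37 (sqz 41 40 (sqz 45 44 (sqz 49 48 (cF 36 44 45 60 (cT 56 45 60 (cT 56 52 63 (cT 56 54 65 (sqz 52 51 (cF 36 51 52 63 (cT 56 52 63 (cT 56 54 65 (sqz 54 53 (cF 36 53 54 65 (cT 56 54 65 (sqz 66 55 (split 39 (split 46 (split 47 (split 69 (split 70 (split 71 (leaf 1) (weyl 0 (weyl 3 (weyl 1 (weyl 2 (weyl 3 (weyl 1 (weyl 0 (weyl 2 (weyl 3 (leaf 2))))))))))) (cL 70 46 71 (weyl 3 (weyl 1 (weyl 2 (weyl 3 (weyl 1 (weyl 0 (weyl 2 (weyl 3 (leaf 2))))))))))) (cL 69 39 70 (cL 69 47 71 (weyl 1 (weyl 3 (weyl 1 (weyl 2 (weyl 3 (weyl 1 (weyl 0 (weyl 2 (weyl 3 (leaf 2))))))))))))) (cL 47 69 71 (sqz 71 69 (split 70 (weyl 0 (leaf 2)) (weyl 1 (weyl 3 (weyl 2 (cK 46 37 40 53 44 (cF 37 47 48 51 (cT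 42 48 51 (weyl 2 (weyl 3 (weyl 1 (weyl 0 (leaf 2))))))))))))))) (cL 46 39 47 (cL 46 70 71 (sqz 71 70 (split 69 (weyl 1 (weyl 0 (leaf 2))) (weyl 3 (weyl 2 (cK 46 37 40 53 44 (cF 37 47 48 51 (cT 42 48 51 (weyl 2 (weyl 3 (weyl 1 (weyl 0 (leaf 2))))))))))))))) (cL 39 46 47 (cL 39 69 70 (sqz 47 46 (sqz 70 69 (split 71 (leaf 2) (weyl 0 (weyl 1 (weyl 3 (weyl 2 (cK 46 37 40 53 44 (cF 37 47 48 51 (cT 42 48 51 (weyl 2 (weyl 3 (weyl 1 (weyl 0 (leaf 2)))))))))))))))))))))))))))))))))))))))))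

theorem tree_ok : chk Ft Sq tree0 Lr [] = true := by decide +kernel

end Cfsg.Agent.Lib.Twisted.E6Inv
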